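import Mathlib

/-!
# The arithmetic of a transvection centre in the presence of a Singer group
-/

set_option autoImplicit false

namespace Cfsg.Agent.Forms.Max.SU3.Singer

theorem small_case {p f i j g : ℕ} (hp : p.Prime) (hf : 2 ≤ f) (hq : p ^ f < 38) (hi : 1 ≤ i) (hif : i < f)
    (hj : j ≤ f) (hg1 : g ∣ (p ^ f) ^ 2 - 1) (hg2 : g ∣ (p ^ f + 1) * (p ^ i - 1))
    (hg3 : 1 ≤ j → g ∣ 3 * (p ^ j - 1))
    (h : ((p ^ f) ^ 2 - p ^ f + 1) * (p ^ i - 1) ≤ p ^ i * p ^ j * g) :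
    p = 2 ∧ f = 3 ∧ i = 1 ∧ j = 2 ∧ g = 9 := by
  have hp2 := hp.two_le
  have hp6 : p ≤ 6 := by
    by_contra hc
    have : 7 ^ 2 ≤ p ^ f := (Nat.pow_le_pow_left (by omega) 2).trans (Nat.pow_le_pow_right (by omega) hf)
    omega
  have hf5 : f ≤ 5 := by
    by_contra hc
    have : 2 ^ 6 ≤ p ^ f := (Nat.pow_le_pow_left hp2 6).trans (Nat.pow_le_pow_right (by omega) (by omega))
    omega
  rcases Nat.eq_zero_or_pos j with rfl | hj0
  · have hd := Nat.dvd_gcd hg1 hg2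
    interval_cases p <;> interval_cases f <;> (try norm_num at hp) <;> (try norm_num at hq) <;>
      interval_cases i <;> norm_num at hd h ⊢ <;>
      first
        | omega
        | (have := Nat.le_of_dvd (Nat.succ_pos _) hd; omega)
  have hd := Nat.dvd_gcd (Nat.dvd_gcd hg1 hg2) (hg3 hj0)
  interval_cases p <;> interval_cases f <;> (try norm_num at hp) <;> (try norm_num at hq) <;>
    interval_cases i <;> interval_cases j <;> norm_num at hd h ⊢ <;>
    first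
      | omega
      | (have := Nat.le_of_dvd (Nat.succ_pos _) hd; omega)
      | (have := Nat.le_of_dvd (Nat.succ_pos _) hd; interval_cases g <;> omega)

/-- only `q = 8` with two transvections at the centre escapes the bounds -/
theorem transvection_arith {p f i j g : ℕ} (hp : p.Prime) (hi : 1 ≤ i) (hif : i < f) (hj : j ≤ f)
    (hg1 : g ∣ (p ^ f) ^ 2 - 1) (hg2 : g ∣ (p ^ f + 1) * (p ^ i - 1))
    (hg3 : 1 ≤ j → g ∣ 3 * (p ^ j - 1))
    (h : ((p ^ f) ^ 2 - p ^ f + 1) * (p ^ i - 1) ≤ p ^ i * p ^ j * g) :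
    p = 2 ∧ f = 3 ∧ i = 1 ∧ j = 2 ∧ g = 9 := by
  refine (lt_or_ge (p ^ f) 38).elim (fun hq => small_case hp (by omega) hq hi hif hj hg1 hg2 hg3 h) fun hq => ?_
  exfalso
  have hp2 := hp.two_le
  set q := p ^ f with hqdef
  set z := p ^ i with hzdef
  set V := p ^ j with hVdef
  set w := p ^ Nat.gcd f i with hwdef
  have hzq : p * z ≤ q := by
    rw [hzdef, hqdef, ← pow_succ']; exact Nat.pow_le_pow_right hp.pos hif
  have hz : p ≤ z := Nat.le_self_pow (by omega) p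
  have hwz : w ≤ z := Nat.pow_le_pow_right hp.pos (Nat.gcd_le_right _ (by omega))
  have hww : w * w ≤ q := by
    rw [hwdef, hqdef, ← pow_add]
    refine Nat.pow_le_pow_right hp.pos ?_
    obtain ⟨c, hc⟩ := Nat.gcd_dvd_left f i
    have h1 : Nat.gcd f i ≤ i := Nat.gcd_le_right _ (by omega)
    rcases c with - | - | c
    · simp at hc; omega
    · simp at hc; omega
    · nlinarith
  have hw2 : 2 ≤ w := hp2.trans (Nat.le_self_pow (Nat.gcd_pos_of_pos_right _ (by omega)).ne' p)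
  have hgw : g ∣ (q + 1) * (w - 1) := by
    have e : (p ^ f) ^ 2 - 1 = (q + 1) * (q - 1) := by rw [← hqdef, ← Nat.sq_sub_sq, one_pow]
    have := Nat.dvd_gcd (e ▸ hg1) hg2
    rwa [Nat.gcd_mul_left, hzdef, hqdef, Nat.pow_sub_one_gcd_pow_sub_one] at this
  rcases Nat.eq_zero_or_pos j with rfl | hj0
  · have hg := Nat.le_of_dvd (Nat.mul_pos (by omega) (by omega)) hg2
    rw [hVdef, pow_zero, mul_one] at h
    have h1 : (q ^ 2 - q + 1) * (z - 1) ≤ z * (q + 1) * (z - 1) :=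
      h.trans (by rw [mul_assoc]; exact Nat.mul_le_mul_left _ hg)
    have h2 := Nat.le_of_mul_le_mul_right h1 (by omega)
    have h3 : 2 * z ≤ q := le_trans (Nat.mul_le_mul_right _ hp2) hzq
    have h4 : q ≤ q ^ 2 := Nat.le_self_pow two_ne_zero q
    zify [h4] at h2
    nlinarith
  have hV : 2 ≤ V := hp2.trans (Nat.le_self_pow (by omega) p)
  have hg3' := hg3 hj0
  have hq1 : q ≤ q ^ 2 := Nat.le_self_pow two_ne_zero q
  rcases eq_or_lt_of_le hj with rfl | hjf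
  · -- `V = q`
    have hd : g ∣ 6 * (w - 1) := by
      have h1 : g ∣ 3 * Nat.gcd (q - 1) ((q + 1) * (w - 1)) := by
        rw [← Nat.gcd_mul_left]
        exact Nat.dvd_gcd hg3' (hgw.trans (dvd_mul_left _ _))
      refine h1.trans ?_
      rw [show 6 * (w - 1) = 3 * (2 * (w - 1)) by ring]
      refine mul_dvd_mul_left _ ((Nat.gcd_mul_right_dvd_mul_gcd _ _ _).trans ?_)
      refine mul_dvd_mul ?_ (Nat.gcd_dvd_right _ _)
      have h2 := Nat.dvd_sub (Nat.gcd_dvd_right (q - 1) (q + 1)) (Nat.gcd_dvd_left (q - 1) (q + 1))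
      rwa [show q + 1 - (q - 1) = 2 by omega] at h2
    have hg := Nat.le_of_dvd (by omega) hd
    have h1 : (q ^ 2 - q + 1) * (z - 1) ≤ z * q * (6 * (w - 1)) := h.trans (Nat.mul_le_mul_left _ hg)
    zify [hq1, (by omega : 1 ≤ z), (by omega : 1 ≤ w)] at h1
    have h2 : ((q : ℤ) ^ 2 - q + 1) * (z * (w - 1)) ≤ ((q : ℤ) ^ 2 - q + 1) * (w * (z - 1)) :=
      mul_le_mul_of_nonneg_left (by nlinarith) (by nlinarith)
    have h3 : (z : ℤ) * (w - 1) * ((q : ℤ) ^ 2 - q + 1) ≤ z * (w - 1) * (6 * q * w) := by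
      have := mul_le_mul_of_nonneg_left h1 (by positivity : (0 : ℤ) ≤ w)
      nlinarith
    have h4 := le_of_mul_le_mul_left h3 (mul_pos (by omega) (by omega))
    have h5 : (q : ℤ) - 1 < 6 * w := by nlinarith
    nlinarith
  have hVq : p * V ≤ q := by
    rw [hVdef, hqdef, ← pow_succ']; exact Nat.pow_le_pow_right hp.pos hjf
  have hg := Nat.le_of_dvd (by omega) hg3'
  have h0 : (q ^ 2 - q + 1) * (z - 1) ≤ z * V * (3 * (V - 1)) := h.trans (Nat.mul_le_mul_left _ hg)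
  zify [hq1, (by omega : 1 ≤ z), (by omega : 1 ≤ V)] at h0
  by_cases hp3 : 3 ≤ p
  · have h1 : 3 * V ≤ q := le_trans (Nat.mul_le_mul_right _ hp3) hVq
    have hz3 : 3 ≤ z := hp3.trans hz
    have e1 : (3 * (V : ℤ)) * (3 * V) ≤ q * q := by
      have : (3 * (V : ℤ)) ≤ q := by exact_mod_cast h1
      nlinarith
    have hm : (0 : ℤ) ≤ (q : ℤ) ^ 2 - q + 1 := by nlinarith
    have e2 : ((q : ℤ) ^ 2 - q + 1) * (2 * z) ≤ ((q : ℤ) ^ 2 - q + 1) * (3 * (z - 1)) :=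
      mul_le_mul_of_nonneg_left (by omega) hm
    have e3 : (z : ℤ) * (2 * ((q : ℤ) ^ 2 - q + 1)) ≤ z * ((q : ℤ) * q) := by
      have : (z : ℤ) * ((3 * V) * (3 * V)) ≤ z * ((q : ℤ) * q) := mul_le_mul_of_nonneg_left e1 (by positivity)
      nlinarith
    nlinarith [le_of_mul_le_mul_left e3 (by positivity : (0 : ℤ) < z)]
  obtain rfl : p = 2 := by omega
  by_cases h4 : 4 * V ≤ q
  · have e1 : (4 * (V : ℤ)) * (4 * V) ≤ q * q := by
      have : (4 * (V : ℤ)) ≤ q := by exact_mod_cast h4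
      nlinarith
    have hm : (0 : ℤ) ≤ (q : ℤ) ^ 2 - q + 1 := by nlinarith
    have e2 : ((q : ℤ) ^ 2 - q + 1) * (1 * z) ≤ ((q : ℤ) ^ 2 - q + 1) * (2 * (z - 1)) :=
      mul_le_mul_of_nonneg_left (by omega) hm
    have e3 : (z : ℤ) * (8 * ((q : ℤ) ^ 2 - q + 1)) ≤ z * (3 * ((q : ℤ) * q)) := by
      have : (z : ℤ) * ((4 * V) * (4 * V)) ≤ z * ((q : ℤ) * q) := mul_le_mul_of_nonneg_left e1 (by positivity)
      nlinarith
    nlinarith [le_of_mul_le_mul_left e3 (by positivity : (0 : ℤ) < z)]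
  have hqV : q = 2 * V := by
    rw [hqdef, hVdef, ← pow_succ']
    congr 1
    by_contra hne
    exact h4 (by rw [hqdef, hVdef, show (4 : ℕ) = 2 ^ 2 from rfl, ← pow_add]; exact Nat.pow_le_pow_right two_pos (by omega))
  have hd : g ∣ 9 * (w - 1) := by
    have h1 : g ∣ 3 * Nat.gcd (V - 1) ((q + 1) * (w - 1)) := by
      rw [← Nat.gcd_mul_left]
      exact Nat.dvd_gcd hg3' (hgw.trans (dvd_mul_left _ _))
    refine h1.trans ?_
    rw [show 9 * (w - 1) = 3 * (3 * (w - 1)) by ring]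
    refine mul_dvd_mul_left _ ((Nat.gcd_mul_right_dvd_mul_gcd _ _ _).trans ?_)
    refine mul_dvd_mul ?_ (Nat.gcd_dvd_right _ _)
    have h2 := Nat.dvd_sub (Nat.gcd_dvd_right (V - 1) (q + 1)) (dvd_mul_of_dvd_right (Nat.gcd_dvd_left (V - 1) (q + 1)) 2)
    rwa [show q + 1 - 2 * (V - 1) = 3 by omega] at h2
  have hg' := Nat.le_of_dvd (by omega) hd
  have h1 : (q ^ 2 - q + 1) * (z - 1) ≤ z * V * (9 * (w - 1)) := h.trans (Nat.mul_le_mul_left _ hg')
  rw [hqV] at h1 hww hq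
  have hq2 : 2 * V ≤ (2 * V) ^ 2 := Nat.le_self_pow two_ne_zero _
  zify [hq2, (by omega : 1 ≤ z), (by omega : 1 ≤ w)] at h1
  have h3 : (z : ℤ) * (w - 1) * ((2 * (V : ℤ)) ^ 2 - 2 * V + 1) ≤ z * (w - 1) * (9 * V * w) := by
    have h2 : ((2 * (V : ℤ)) ^ 2 - 2 * V + 1) * (z * (w - 1)) ≤ ((2 * (V : ℤ)) ^ 2 - 2 * V + 1) * (w * (z - 1)) :=
      mul_le_mul_of_nonneg_left (by nlinarith) (by nlinarith)
    have := mul_le_mul_of_nonneg_left h1 (by positivity : (0 : ℤ) ≤ w)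
    nlinarith
  have h5 := le_of_mul_le_mul_left h3 (mul_pos (by omega) (by omega))
  have h6 : 4 * (V : ℤ) - 2 < 9 * w := by nlinarith
  nlinarith

end Cfsg.Agent.Forms.Max.SU3.Singer
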