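import Cfsg.Agent.SimpleFacts.MinIndexPSUThree.Values
import Cfsg.Agent.SimpleFacts.MinIndexPSUThree.Cases

/-!
# Bounds on the stabiliser of a centre with a proper transvection group

If the transvections with one centre form a proper subgroup of order `z` then the coordinates of the stabiliser form a
totally isotropic group of order at most `q`, and the scalars a group of order dividing `(q + 1)(z - 1)`.
-/

set_option autoImplicit false
set_option linter.unusedSectionVars false

namespace Cfsg.Agent.Forms.Max.SU3.Singer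

open Matrix Cfsg.Agent.Classical Cfsg.Agent.Classical.Unitary
open Cfsg.Agent.SimpleFacts.MinIndexPSUThree Cfsg.Agent.SimpleFacts.MinIndexPSUThree.Borel

universe u

/-- the size of a set of units stable under a subgroup is a multiple of the order of the subgroup -/
theorem card_dvd_of_stable {G : Type*} [CommGroup G] (P : Subgroup G) (S : Set G)
    (h : ∀ p ∈ P, ∀ s ∈ S, p * s ∈ S) : Nat.card P ∣ Nat.card S := by
  have e : QuotientGroup.mk ⁻¹' (QuotientGroup.mk '' S : Set (G ⧸ P)) = S := by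
    ext x
    simp only [Set.mem_preimage, Set.mem_image]
    constructor
    · rintro ⟨s, hs, hsx⟩
      have := h _ (QuotientGroup.eq.1 hsx) s hs
      rwa [mul_comm (s⁻¹) x, inv_mul_cancel_right] at this
    · exact fun hx => ⟨x, hx, rfl⟩
  have := Nat.card_congr (QuotientGroup.preimageMkEquivSubgroupProdSet P (QuotientGroup.mk '' S : Set (G ⧸ P)))
  rw [e, Nat.card_prod] at this
  exact ⟨_, this⟩

variable {F : Type u} [Field F] [Fintype F] {q : ℕ}

local notation "H" => Cfsg.hermForm 3 F q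
local notation "SU3" => Cfsg.SU 3 F q

variable (hF : Fintype.card F = q ^ 2) (K : Subgroup (Cfsg.SU 3 F q)) (B : Frame F q)

include hF

/-- the central coordinates, as a group -/
def tsAdd : AddSubgroup F where
  carrier := Values.Ts K B
  zero_mem' := Values.zero_mem_Ts hF K B
  neg_mem' := Values.neg_mem_Ts hF K B
  add_mem' := by
    rintro _ _ ⟨u, hu, rfl⟩ ⟨v, hv, rfl⟩
    refine ⟨u * v, mul_mem hu hv, ?_⟩
    obtain ⟨h1, h2⟩ := (Group.mem_Zg_iff hF B).1 hu.2
    obtain ⟨h3, h4⟩ := (Group.mem_Zg_iff hF B).1 hv.2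
    show tau B (u * v) = _
    rw [tau_mul hF B h1 h3, h2, h4, mul_zero, sub_zero]

theorem mem_tsAdd {x : F} : x ∈ tsAdd hF K B ↔ x ∈ Values.Ts K B := Iff.rfl

/-- with a proper transvection group the coordinates are totally isotropic -/
theorem card_Vs_le_q (hz : Nat.card ↥(K ⊓ Group.Zg F q B.e) < q) :
    Nat.card (Sub.Vs K B hF) ≤ q := by
  classical
  obtain ⟨c₀, hc₀, hc₀T⟩ : ∃ c₀ : F, c₀ + c₀ ^ q = 0 ∧ c₀ ∉ Values.Ts K B := by
    by_contra h
    push Not at h
    have h1 : Nat.card {c : F // c + c ^ q = 0} ≤ Nat.card (Values.Ts K B) :=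
      Nat.card_le_card_of_injective (fun c => (⟨c.1, h c.1 c.2⟩ : Values.Ts K B)) fun a b e =>
        Subtype.ext (congrArg Subtype.val e :)
    rw [Group.card_traceZero hF, Values.natCard_Ts hF K B] at h1
    omega
  obtain ⟨p, hp⟩ := CharP.exists F
  obtain ⟨n, hpp, hn⟩ := FiniteField.card F p
  have : Fact p.Prime := ⟨hpp⟩
  let _ : Algebra (ZMod p) F := ZMod.algebra F p
  obtain ⟨l, hl0, hl⟩ := Submodule.exists_dual_map_eq_bot_of_notMem
    (p := AddSubgroup.toZModSubmodule p (tsAdd hF K B)) (x := c₀) (fun h => hc₀T h) inferInstance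
  have hlT : ∀ x ∈ Values.Ts K B, l x = 0 := fun x hx =>
    (Submodule.mem_bot _).1 (hl ▸ Submodule.mem_map_of_mem (f := l) (show x ∈ AddSubgroup.toZModSubmodule p (tsAdd hF K B) from hx))
  have hqadd : ∀ x y : F, (x + y) ^ q = x ^ q + y ^ q := fun x y => HermStd.add_pow_q hF x y
  have hqsc : ∀ (c : ZMod p) (x : F), (c • x) ^ q = c • x ^ q := by
    intro c x
    rw [Algebra.smul_def, Algebra.smul_def, mul_pow]
    congr 1
    obtain ⟨j, hj⟩ : ∃ j, q = p ^ j := by
      obtain ⟨j, -, hj⟩ := (Nat.dvd_prime_pow hpp).1 ((hn.symm.trans hF) ▸ dvd_pow_self q two_ne_zero)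
      exact ⟨j, hj⟩
    rw [hj, ← map_pow, ZMod.pow_card_pow]
  let Bf : LinearMap.BilinForm (ZMod p) F := LinearMap.mk₂ (ZMod p)
    (fun x y => l (x ^ q * y - y ^ q * x))
    (fun x x' y => by rw [← map_add, hqadd]; congr 1; ring)
    (fun c x y => by rw [← map_smul, hqsc, smul_sub, smul_mul_assoc, mul_smul_comm])
    (fun x y y' => by rw [← map_add, hqadd]; congr 1; ring)
    (fun c x y => by rw [← map_smul, hqsc, smul_sub, smul_mul_assoc, mul_smul_comm])
  have hBf : ∀ x y, Bf x y = l (x ^ q * y - y ^ q * x) := fun x y => rfl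
  have hnd : Bf.Nondegenerate := by
    obtain ⟨β, hβ⟩ := exists_trace_eq hF (c := (1 : F)) (one_pow q)
    have hkey : ∀ x : F, x ≠ 0 → ∃ y, Bf x y ≠ 0 ∧ Bf y x ≠ 0 := by
      intro x hx
      have hq0 : (x ^ q) ≠ 0 := pow_ne_zero _ hx
      refine ⟨β * c₀ / x ^ q, ?_⟩
      have e : x ^ q * (β * c₀ / x ^ q) - (β * c₀ / x ^ q) ^ q * x = c₀ := by
        have hc : c₀ ^ q = -c₀ := by linear_combination hc₀
        rw [mul_div_cancel₀ _ hq0, div_pow, mul_pow, pow_qq hF, div_mul_cancel₀ _ hx, hc]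
        linear_combination c₀ * hβ
      constructor
      · rw [hBf, e]; exact hl0
      · rw [hBf, show (β * c₀ / x ^ q) ^ q * x - x ^ q * (β * c₀ / x ^ q) = -c₀ by linear_combination -e,
          map_neg, neg_ne_zero]
        exact hl0
    constructor
    · intro x hx
      by_contra hx0
      obtain ⟨y, hy, -⟩ := hkey x hx0
      exact hy (hx y)
    · intro x hx
      by_contra hx0
      obtain ⟨y, -, hy⟩ := hkey x hx0
      exact hy (hx y)
  set W := AddSubgroup.toZModSubmodule p (Sub.Vs K B hF)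
  have hW : W ≤ Bf.orthogonal W := by
    intro x hx y hy
    exact hlT _ (Values.comm_mem_Ts hF K B hy hx)
  have h1 := Submodule.finrank_mono hW
  rw [LinearMap.BilinForm.finrank_orthogonal hnd] at h1
  have hcard : Nat.card (Sub.Vs K B hF) = p ^ Module.finrank (ZMod p) W := by
    have := Module.natCard_eq_pow_finrank (K := ZMod p) (V := W)
    rwa [Nat.card_zmod] at this
  have hF' : q ^ 2 = p ^ Module.finrank (ZMod p) F := by
    have := Module.natCard_eq_pow_finrank (K := ZMod p) (V := F)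
    rwa [Nat.card_zmod, Nat.card_eq_fintype_card, hF] at this
  rw [hcard]
  refine (Nat.pow_le_pow_iff_left (n := 2) two_ne_zero).1 ?_
  rw [hF', ← pow_mul]
  exact Nat.pow_le_pow_right hpp.pos (by omega)

/-- the scalars permute the central coordinates semiregularly, modulo the scalars of norm one -/
theorem card_Cs_dvd_mul : Nat.card (Sub.Cs K B) ∣ (q + 1) * (Nat.card ↥(K ⊓ Group.Zg F q B.e) - 1) := by
  classical
  let ν : Sub.Cs K B →* Fˣ := (powMonoidHom (q + 1)).comp (Sub.Cs K B).subtype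
  rw [← ν.ker.card_mul_index, Subgroup.index_ker]
  refine mul_dvd_mul ?_ ?_
  · have h1 : Nat.card ν.ker ∣ Nat.card (powMonoidHom (q + 1) : Fˣ →* Fˣ).ker := by
      refine Subgroup.card_dvd_of_injective
        (f := MonoidHom.codRestrict ((Sub.Cs K B).subtype.comp ν.ker.subtype) _ fun a => a.2) fun a b h => ?_
      exact Subtype.ext (Subtype.ext (congrArg Subtype.val h :))
    refine h1.trans ?_
    rw [IsCyclic.card_powMonoidHom_ker]
    exact Nat.gcd_dvd_right _ _
  · set S : Set Fˣ := {x : Fˣ | (x : F) ∈ Values.Ts K B}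
    have h1 : Nat.card S = Nat.card ↥(K ⊓ Group.Zg F q B.e) - 1 := by
      rw [← Values.natCard_Ts hF K B]
      have e : (Units.val '' S) = Values.Ts K B \ {0} := by
        ext x
        constructor
        · rintro ⟨a, ha, rfl⟩; exact ⟨ha, a.ne_zero⟩
        · rintro ⟨hx, hx0⟩; exact ⟨Units.mk0 x hx0, hx, rfl⟩
      rw [← Nat.card_image_of_injective Units.val_injective, e, Nat.card_coe_set_eq, Nat.card_coe_set_eq,
        Set.ncard_sdiff (Set.singleton_subset_iff.2 (Values.zero_mem_Ts hF K B)) (Set.finite_singleton _),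
        Set.ncard_singleton]
    rw [← h1]
    refine card_dvd_of_stable _ S ?_
    rintro _ ⟨a, rfl⟩ s hs
    show ((ν a * s : Fˣ) : F) ∈ Values.Ts K B
    simpa [ν] using Values.smul_mem_Ts hF K B a.2 hs

/-- the scalars permute the coordinates semiregularly, up to three -/
theorem card_Cs_dvd_three (hV : 1 < Nat.card (Sub.Vs K B hF)) :
    Nat.card (Sub.Cs K B) ∣ 3 * (Nat.card (Sub.Vs K B hF) - 1) := by
  classical
  have hq1 := HermStd.one_lt_q hF
  let β : Sub.Cs K B →* Fˣ := (((powMonoidHom 2 : Fˣ →* Fˣ) / powMonoidHom q)).comp (Sub.Cs K B).subtype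
  rw [← β.ker.card_mul_index, Subgroup.index_ker]
  refine mul_dvd_mul ?_ ?_
  · refine dvd_trans ?_ (Cases.gcd_sub_two (q := q) hq1)
    let ι : β.ker →* Fˣ := (Sub.Cs K B).subtype.comp β.ker.subtype
    rw [← Nat.card_congr (MonoidHom.ofInjective (f := ι) (fun a b h => Subtype.ext (Subtype.ext h))).toEquiv.symm]
    refine Bounds.card_dvd_of_pow hF _ ?_
    rintro _ ⟨a, rfl⟩
    have h := MonoidHom.mem_ker.1 a.2
    simp only [β, MonoidHom.coe_comp, Function.comp_apply, Subgroup.coe_subtype, MonoidHom.div_apply,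
      powMonoidHom_apply, div_eq_one] at h
    show (a.1 : Fˣ) ^ (q - 2) = 1
    refine mul_right_cancel (b := (a.1 : Fˣ) ^ 2) ?_
    rw [← pow_add, Nat.sub_add_cancel hq1, one_mul]
    exact h.symm
  · set S : Set Fˣ := {x : Fˣ | (x : F) ∈ Sub.Vs K B hF}
    have h1 : Nat.card S = Nat.card (Sub.Vs K B hF) - 1 := by
      have e : (Units.val '' S) = ((Sub.Vs K B hF : Set F)) \ {0} := by
        ext x
        constructor
        · rintro ⟨a, ha, rfl⟩; exact ⟨ha, a.ne_zero⟩
        · rintro ⟨hx, hx0⟩; exact ⟨Units.mk0 x hx0, hx, rfl⟩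
      rw [← Nat.card_image_of_injective Units.val_injective, e, Nat.card_coe_set_eq,
        Set.ncard_sdiff (Set.singleton_subset_iff.2 (Sub.Vs K B hF).zero_mem) (Set.finite_singleton _),
        Set.ncard_singleton, ← Nat.card_coe_set_eq]
      rfl
    rw [← h1]
    refine card_dvd_of_stable _ S ?_
    rintro _ ⟨a, rfl⟩ s hs
    obtain ⟨u, hu, hus⟩ := hs
    obtain ⟨k, hk, hka⟩ := Sub.exists_of_mem_Cs K B a.2
    obtain ⟨h1, h2⟩ := phi_conj hF B hka hu.2
    refine ⟨k * u * k⁻¹, ⟨K.mul_mem (K.mul_mem hk hu.1) (K.inv_mem hk), h1⟩, ?_⟩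
    rw [h2, hus]
    simp [β]

end Cfsg.Agent.Forms.Max.SU3.Singer
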