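import Cfsg.Agent.Lib.Forms.Max.SU3.Singer.Cyclic

/-!
# The order of an overgroup of the cyclic group of the cubic field

The normaliser of the field meets an overgroup in one or three cosets of the cyclic group, which acts semiregularly
modulo scalars on the remaining cosets of this intersection.
-/

set_option autoImplicit false
set_option linter.unusedSectionVars false
set_option linter.style.haveILetI false

namespace Cfsg.Agent.Forms.Max.SU3.Singer

open Matrix

universe u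

variable {F : Type u} [Field F] {q : ℕ}

local notation "Vec" => (Fin 3 → F)
local notation "Mat" => Matrix (Fin 3) (Fin 3) F
local notation "GL3" => GL (Fin 3) F
local notation "SUn" => (Cfsg.GU 3 F q ⊓ Cfsg.Geo.specialLinear (Fin 3) F)

variable {K : Subalgebra F (Matrix (Fin 3) (Fin 3) F)}

/-- a member of the field of cube one is scalar -/
theorem eq_smul_one_of_cube (hK : Cfsg.Geo.IsFieldSubalgebra 3 K) {x : Mat} (hx : x ∈ K) (h : x ^ 3 = 1) :
    ∃ z : F, x = z • 1 := by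
  by_contra hne
  push Not at hne
  have hN := SL3.Singer.Odd.noEig hK hx hne
  have hv : (Pi.single 0 1 : Vec) ≠ 0 := by simp
  obtain ⟨y, -, hy⟩ := hK.inv (x - 1) (K.sub_mem hx K.one_mem)
    (sub_ne_zero.2 (by simpa using hne 1))
  have h3 : (x - 1) * ((1 : F) • (1 : Mat) + (1 : F) • x + (1 : F) • x ^ 2) = 0 := by
    simp only [one_smul]
    calc (x - 1) * (1 + x + x ^ 2) = x ^ 3 - 1 := by noncomm_ring
      _ = 0 := by rw [h, sub_self]
  have h4 : (1 : F) • (1 : Mat) + (1 : F) • x + (1 : F) • x ^ 2 = 0 := by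
    have := congrArg (y * ·) h3
    rwa [← mul_assoc, mul_eq_one_comm.1 hy, one_mul, mul_zero] at this
  have h5 := SL3.Singer.Odd.quad_mulVec x 1 1 1 (Pi.single 0 1)
  rw [h4, Matrix.zero_mulVec] at h5
  exact one_ne_zero (hN.indep hv h5.symm).1

/-- nine never divides `q ^ 2 - q + 1` -/
theorem gcd_nine (q : ℕ) : Nat.gcd (q ^ 2 - q + 1) 9 ∣ 3 ∧
    Nat.gcd (q ^ 2 - q + 1) 3 = Nat.gcd 3 (q + 1) := by
  have hqq : q ≤ q ^ 2 := Nat.le_self_pow two_ne_zero q
  obtain ⟨k, r, hr, rfl⟩ : ∃ k r, r < 9 ∧ q = 9 * k + r :=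
    ⟨q / 9, q % 9, Nat.mod_lt _ (by norm_num), (Nat.div_add_mod q 9).symm⟩
  have e : (9 * k + r) ^ 2 - (9 * k + r) + 1 + (9 * k + r) = 9 * (9 * k ^ 2 + 2 * k * r) + r ^ 2 + 1 := by
    have : (9 * k + r) ^ 2 = 9 * (9 * k ^ 2 + 2 * k * r) + r ^ 2 := by ring
    omega
  set m := (9 * k + r) ^ 2 - (9 * k + r) + 1
  have h9 : Nat.gcd m 9 = Nat.gcd 9 (m % 9) := by rw [Nat.gcd_comm, Nat.gcd_rec, Nat.gcd_comm]
  have h3 : Nat.gcd m 3 = Nat.gcd 3 (m % 3) := by rw [Nat.gcd_comm, Nat.gcd_rec, Nat.gcd_comm]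
  have hq3 : Nat.gcd 3 (9 * k + r + 1) = Nat.gcd 3 ((r + 1) % 3) := by
    rw [Nat.gcd_rec, Nat.gcd_comm, show (9 * k + r + 1) % 3 = (r + 1) % 3 by omega]
  have h39 : m % 3 = m % 9 % 3 := by omega
  rw [h9, h3, hq3, h39]
  have hm : (m % 9 + r) % 9 = (r ^ 2 + 1) % 9 := by omega
  have hlt : m % 9 < 9 := Nat.mod_lt _ (by norm_num)
  generalize m % 9 = a at hm hlt
  interval_cases r <;> interval_cases a <;> simp at hm ⊢

section Normalizer

variable [Fintype F]

theorem exists_pow {c x : GL3} (hx : x ∈ Subgroup.zpowers c) : ∃ j : ℕ, c ^ j = x :=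
  (isOfFinOrder_of_finite c).mem_powers_iff_mem_zpowers.2 hx

theorem mem_iff_cube (hK : Cfsg.Geo.IsFieldSubalgebra 3 K) {c : GL3} (hcK : (c : Mat) ∈ K)
    (hc : c ∈ Cfsg.Geo.specialLinear (Fin 3) F) {x : GL3} (hx : x ∈ Subgroup.zpowers c) :
    (∃ z : F, (x : Mat) = z • 1) ↔ x ^ 3 = 1 := by
  obtain ⟨i, rfl⟩ := exists_pow hx
  constructor
  · rintro ⟨z, hz⟩
    rw [← pow_mul, mul_comm]
    exact orderOf_dvd_iff_pow_eq_one.1 (three_mul_dvd hc hz)
  · intro h
    refine eq_smul_one_of_cube hK (by rw [Units.val_pow_eq_pow_val]; exact K.pow_mem hcK _) ?_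
    rw [← Units.val_pow_eq_pow_val, h, Units.val_one]

theorem conj_pow_mem {g c : GL3} (hg : g ∈ Cfsg.Geo.subalgebraNormalizer K) (hcK : (c : Mat) ∈ K) :
    ((g * c * g⁻¹ : GL3) : Mat) ∈ K := by
  rw [Units.val_mul, Units.val_mul]
  exact (hg (c : Mat)).1 hcK

theorem mem_normalizer_self (hK : Cfsg.Geo.IsFieldSubalgebra 3 K) {x : GL3} (hx : (x : Mat) ∈ K) :
    x ∈ Cfsg.Geo.subalgebraNormalizer K := fun k => by
  obtain ⟨g, hg, hginv⟩ := SL3.Singer.exists_gl hK hx x.ne_zero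
  have hg' : g = x := Units.ext hg
  constructor
  · intro hk
    rwa [hK.comm _ hx _ hk, mul_assoc, Units.mul_inv, mul_one]
  · intro h
    have := K.mul_mem (K.mul_mem (hg' ▸ hginv) h) hx
    simpa [mul_assoc] using this

/-- the normaliser of the field meets the group in one or three cosets of the cyclic group -/
theorem card_inf (hK : Cfsg.Geo.IsFieldSubalgebra 3 K) {M : Subgroup GL3} {c : GL3} (hcM : c ∈ M)
    (hcK : (c : Mat) ∈ K) (hc1 : ∀ z : F, (c : Mat) ≠ z • 1)
    (hall : ∀ x ∈ M, (x : Mat) ∈ K → x ∈ Subgroup.zpowers c) :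
    ∃ ν, ν ∣ 3 ∧ Nat.card ↥(M ⊓ Cfsg.Geo.subalgebraNormalizer K) = ν * orderOf c := by
  classical
  set N := M ⊓ Cfsg.Geo.subalgebraNormalizer K with hN
  have hne := SL3.Singer.Odd.noEig hK hcK hc1
  let f : N → Mat := fun g => (((g : GL3) * c * (g : GL3)⁻¹ : GL3) : Mat)
  have hroot : ∀ g : N, f g ∈ K ∧ Polynomial.aeval (f g) (c : Mat).charpoly = 0 := fun g => by
    refine ⟨conj_pow_mem g.2.2 hcK, ?_⟩
    have he := Matrix.aeval_self_charpoly (((g : GL3) : Mat) * (c : Mat) * (((g : GL3)⁻¹ : GL3) : Mat))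
    rw [Matrix.coe_units_inv, Matrix.charpoly_units_conj (g : GL3) (c : Mat), ← Matrix.coe_units_inv] at he
    have hf : f g = ((g : GL3) : Mat) * (c : Mat) * (((g : GL3)⁻¹ : GL3) : Mat) := by
      simp only [f, Units.val_mul]
    rw [hf]; exact he
  -- the conjugates of `c`
  set T := Finset.univ.image f with hT
  have hT3 : T.card ≤ 3 := hne.roots_le_three T fun b hb => by
    obtain ⟨g, -, rfl⟩ := Finset.mem_image.1 hb
    exact ⟨hK.comm _ (hroot g).1 _ hcK, (hroot g).2⟩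
  have hfib : ∀ g h : N, f g = f h ↔ ((g⁻¹ * h : N) : GL3) ∈ Subgroup.zpowers c := by
    intro g h
    constructor
    · intro e
      refine hall _ ((g⁻¹ * h : N).2.1) (SL3.Singer.Odd.mem_of_comm hK hcK hc1 ?_)
      have e' : (g : GL3) * c * (g : GL3)⁻¹ = (h : GL3) * c * (h : GL3)⁻¹ := Units.ext e
      rw [← Units.val_mul, ← Units.val_mul]
      congr 1
      calc ((g⁻¹ * h : N) : GL3) * c
          = (g : GL3)⁻¹ * ((h : GL3) * c * (h : GL3)⁻¹) * h := by
            rw [Subgroup.coe_mul, Subgroup.coe_inv]; group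
        _ = c * ((g⁻¹ * h : N) : GL3) := by rw [← e', Subgroup.coe_mul, Subgroup.coe_inv]; group
    · intro hm
      obtain ⟨i, hi⟩ := hm
      simp only [Subgroup.coe_mul, Subgroup.coe_inv] at hi
      have : (h : GL3) = (g : GL3) * c ^ i := by rw [hi, mul_inv_cancel_left]
      simp only [f, this]
      congr 1
      group
  have hcN : Subgroup.zpowers c ≤ N := Subgroup.zpowers_le.2 ⟨hcM, mem_normalizer_self hK hcK⟩
  set C := (Subgroup.zpowers c).subgroupOf N with hC
  have hcardC : Nat.card C = orderOf c := by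
    rw [Nat.card_congr (Subgroup.subgroupOfEquivOfLe hcN).toEquiv, Nat.card_zpowers]
  let e : N ⧸ C ≃ T := Equiv.ofBijective (Quotient.lift (fun g => (⟨f g, Finset.mem_image_of_mem f (Finset.mem_univ g)⟩ : T))
    fun g h hgh => Subtype.ext ((hfib g h).2 (Subgroup.mem_subgroupOf.1 (QuotientGroup.leftRel_apply.1 hgh)))) (by
      refine ⟨fun a b => ?_, fun ⟨b, hb⟩ => ?_⟩
      · induction a using Quotient.inductionOn with | _ g => ?_
        induction b using Quotient.inductionOn with | _ h => ?_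
        exact fun e => Quotient.sound (QuotientGroup.leftRel_apply.2
          (Subgroup.mem_subgroupOf.2 ((hfib g h).1 (congrArg Subtype.val e))))
      · obtain ⟨g, -, hg⟩ := Finset.mem_image.1 hb
        exact ⟨Quotient.mk _ g, Subtype.ext hg⟩)
  refine ⟨T.card, ?_, ?_⟩
  swap
  · rw [C.card_eq_card_quotient_mul_card_subgroup, Nat.card_congr e, hcardC, Nat.card_eq_fintype_card,
      Fintype.card_coe]
  have hc_mem : (c : Mat) ∈ T := Finset.mem_image.2 ⟨1, Finset.mem_univ _, by simp [f]⟩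
  have hpos : 0 < T.card := Finset.card_pos.2 ⟨_, hc_mem⟩
  have h2 : T.card ≠ 2 := by
    intro h2
    obtain ⟨a, b, hab, hTab⟩ := Finset.card_eq_two.1 h2
    obtain ⟨d, hd, hdT⟩ : ∃ d : Mat, d ≠ (c : Mat) ∧ T = {(c : Mat), d} := by
      rw [hTab, Finset.mem_insert, Finset.mem_singleton] at hc_mem
      rcases hc_mem with e | e
      · exact ⟨b, by rw [e]; exact hab.symm, by rw [hTab, e]⟩
      · exact ⟨a, by rw [e]; exact hab, by rw [hTab, e, Finset.pair_comm]⟩
    obtain ⟨g, -, hg⟩ := Finset.mem_image.1 (show d ∈ T by rw [hdT]; simp)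
    set γ := ((g : GL3) : Mat) with hγ
    set γ' := (((g : GL3)⁻¹ : GL3) : Mat) with hγ'
    have hgc : γ * (c : Mat) * γ' = d := by rw [← hg]; simp only [f, γ, γ', Units.val_mul]
    have hinv : γ' * γ = 1 := by rw [hγ, hγ', Units.inv_mul]
    have hgd : γ * d * γ' = (c : Mat) := by
      have hmem : f (g * g) ∈ T := Finset.mem_image_of_mem f (Finset.mem_univ _)
      have hgg : f (g * g) = γ * d * γ' := by
        rw [← hgc]
        simp only [f, γ, γ', Subgroup.coe_mul, _root_.mul_inv_rev, Units.val_mul, mul_assoc]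
      rw [hgg, hdT, Finset.mem_insert, Finset.mem_singleton] at hmem
      refine hmem.resolve_right fun e => hd ?_
      have := congrArg (fun x => γ' * x * γ) (e.trans hgc.symm)
      simpa [mul_assoc, hinv, ← mul_assoc γ'] using this
    have hdK : d ∈ K := hg ▸ (hroot g).1
    have hgK : γ ∉ K := fun h => hd (by
      rw [← hgc, hK.comm _ h _ hcK, mul_assoc, Units.mul_inv, mul_one])
    have fixd : ∀ x ∈ K, γ * x * γ' = x → ∃ z : F, x = z • 1 := fun x hx e => by
      by_contra hne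
      push Not at hne
      refine hgK (SL3.Singer.Odd.mem_of_comm hK hx hne ?_)
      have := congrArg (· * γ) e
      simpa [mul_assoc, hinv] using this
    obtain ⟨s, hs⟩ := fixd _ (K.add_mem hcK hdK) (by rw [mul_add, add_mul, hgc, hgd, add_comm])
    obtain ⟨p, hp⟩ := fixd _ (K.mul_mem hcK hdK) (by
      calc γ * ((c : Mat) * d) * γ' = γ * (c : Mat) * γ' * (γ * d * γ') := by
            simp [mul_assoc, ← mul_assoc γ', hinv]
        _ = (c : Mat) * d := by rw [hgc, hgd, hK.comm _ hdK _ hcK])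
    have hd' : d = s • 1 - (c : Mat) := by rw [← hs, add_sub_cancel_left]
    rw [hd', mul_sub, mul_smul_comm, mul_one] at hp
    have h0 : p • (1 : Mat) + (-s) • (c : Mat) + (1 : F) • (c : Mat) ^ 2 = 0 := by
      rw [← hp, sq, one_smul, neg_smul]; abel
    have hv : (Pi.single 0 1 : Vec) ≠ 0 := by simp
    have h5 := SL3.Singer.Odd.quad_mulVec (c : Mat) p (-s) 1 (Pi.single 0 1)
    rw [h0, Matrix.zero_mulVec] at h5
    exact one_ne_zero (hne.indep hv h5.symm).2.2
  obtain h | h : T.card = 1 ∨ T.card = 3 := by omega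
  · rw [h]; norm_num
  · rw [h]

/-- cubes in the normaliser lie in the cyclic group -/
theorem cube_mem (hK : Cfsg.Geo.IsFieldSubalgebra 3 K) {M : Subgroup GL3} {c : GL3} (hcM : c ∈ M)
    (hcK : (c : Mat) ∈ K) (hc1 : ∀ z : F, (c : Mat) ≠ z • 1)
    (hall : ∀ x ∈ M, (x : Mat) ∈ K → x ∈ Subgroup.zpowers c) {y : GL3} (hyM : y ∈ M)
    (hyN : y ∈ Cfsg.Geo.subalgebraNormalizer K) : ((y ^ 3 : GL3) : Mat) ∈ K := by
  classical
  have hne := SL3.Singer.Odd.noEig hK hcK hc1
  by_cases h0 : y * c * y⁻¹ = c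
  · have hcy : (y : Mat) * c = c * y := by
      rw [← Units.val_mul, ← Units.val_mul]
      congr 1
      calc y * c = y * c * y⁻¹ * y := by group
        _ = c * y := by rw [h0]
    rw [Units.val_pow_eq_pow_val]
    exact K.pow_mem (SL3.Singer.Odd.mem_of_comm hK hcK hc1 hcy) 3
  obtain ⟨ν, hν, hN⟩ := card_inf hK hcM hcK hc1 hall
  set N := M ⊓ Cfsg.Geo.subalgebraNormalizer K
  have hcN : Subgroup.zpowers c ≤ N := Subgroup.zpowers_le.2 ⟨hcM, mem_normalizer_self hK hcK⟩
  set C := (Subgroup.zpowers c).subgroupOf N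
  haveI : C.Normal := ⟨fun x hx g => by
    obtain ⟨i, hi⟩ := Subgroup.mem_subgroupOf.1 hx
    refine Subgroup.mem_subgroupOf.2 (hall _ (g * x * g⁻¹ : N).2.1 ?_)
    obtain ⟨j, hj⟩ := exists_pow (Subgroup.mem_subgroupOf.1 hx)
    have hxK : ((x : GL3) : Mat) ∈ K := by rw [← hj, Units.val_pow_eq_pow_val]; exact K.pow_mem hcK j
    simpa using conj_pow_mem (c := (x : GL3)) g.2.2 hxK⟩
  have hidx : C.index = ν := by
    have h := C.card_mul_index
    rw [Nat.card_congr (Subgroup.subgroupOfEquivOfLe hcN).toEquiv, Nat.card_zpowers, hN, mul_comm ν] at h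
    exact Nat.eq_of_mul_eq_mul_left (orderOf_pos c) h
  have h3 : (⟨y, hyM, hyN⟩ : N) ^ 3 ∈ C := by
    obtain ⟨k, hk⟩ := hν
    rw [show (⟨y, hyM, hyN⟩ : N) ^ 3 = ((⟨y, hyM, hyN⟩ : N) ^ ν) ^ k by rw [← pow_mul, ← hk]]
    exact C.pow_mem (hidx ▸ C.pow_index_mem _) k
  obtain ⟨j, hj⟩ := exists_pow (Subgroup.mem_subgroupOf.1 h3)
  have : y ^ 3 = c ^ j := by simpa using hj.symm
  rw [this, Units.val_pow_eq_pow_val]
  exact K.pow_mem hcK j

/-- the order of an overgroup -/
theorem card_eq (hK : Cfsg.Geo.IsFieldSubalgebra 3 K) {M : Subgroup GL3}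
    (hMS : M ≤ Cfsg.Geo.specialLinear (Fin 3) F) {c : GL3} (hcM : c ∈ M) (hcK : (c : Mat) ∈ K)
    (hord : orderOf c = q ^ 2 - q + 1) (hc1 : ∀ z : F, (c : Mat) ≠ z • 1)
    (hall : ∀ x ∈ M, (x : Mat) ∈ K → x ∈ Subgroup.zpowers c) :
    ∃ ν t, ν ∣ 3 ∧ Nat.card ↥(M ⊓ Cfsg.Geo.subalgebraNormalizer K) = ν * (q ^ 2 - q + 1) ∧
      Nat.card M = ν * (q ^ 2 - q + 1) * (1 + t * ((q ^ 2 - q + 1) / Nat.gcd 3 (q + 1))) := by
  classical
  set m := q ^ 2 - q + 1
  obtain ⟨ν, hν, hcardN⟩ := card_inf hK hcM hcK hc1 hall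
  rw [hord] at hcardN
  refine ⟨ν, ?_⟩
  set N := (M ⊓ Cfsg.Geo.subalgebraNormalizer K).subgroupOf M with hN
  have hNcard : Nat.card N = ν * m := by
    rw [← hcardN, Nat.card_congr (Subgroup.subgroupOfEquivOfLe inf_le_left).toEquiv]
  set C := (Subgroup.zpowers c).subgroupOf M with hC
  have hCle : Subgroup.zpowers c ≤ M := Subgroup.zpowers_le.2 hcM
  have hCcard : Nat.card C = m := by
    rw [Nat.card_congr (Subgroup.subgroupOfEquivOfLe hCle).toEquiv, Nat.card_zpowers, hord]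
  have hCN : C ≤ N := fun x hx => by
    obtain ⟨i, hi⟩ := Subgroup.mem_subgroupOf.1 hx
    refine Subgroup.mem_subgroupOf.2 ⟨x.2, mem_normalizer_self hK ?_⟩
    obtain ⟨j, hj⟩ := exists_pow (Subgroup.mem_subgroupOf.1 hx)
    rw [← hj, Units.val_pow_eq_pow_val]; exact K.pow_mem hcK j
  haveI : Finite M := inferInstance
  -- stabilisers outside the base point
  have hstab : ∀ (g : M) (x : C), g ∉ N →
      ((x : M) • (g : M ⧸ N) = (g : M ⧸ N) ↔ ((x : M) : GL3) ^ 3 = 1) := by
    intro g x hg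
    have hxz : ((x : M) : GL3) ∈ Subgroup.zpowers c := Subgroup.mem_subgroupOf.1 x.2
    rw [MulAction.Quotient.smul_coe, QuotientGroup.eq, smul_eq_mul, _root_.mul_inv_rev]
    constructor
    · intro h
      set y : GL3 := (g : GL3)⁻¹ * ((x : M) : GL3) * g with hy
      have hyN : y ∈ Cfsg.Geo.subalgebraNormalizer K := by
        have := (Subgroup.mem_subgroupOf.1 (N.inv_mem h)).2
        simpa [hy, mul_assoc] using this
      obtain ⟨j, hj⟩ := exists_pow hxz
      have hyM : y ∈ M := mul_mem (mul_mem (inv_mem g.2) (x : M).2) g.2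
      have hy3 : ((y ^ 3 : GL3) : Mat) ∈ K := by
        exact cube_mem hK hcM hcK hc1 hall hyM hyN
      by_cases hs : ∃ z : F, ((y ^ 3 : GL3) : Mat) = z • 1
      · obtain ⟨z, hz⟩ := hs
        have hyS : y ∈ Cfsg.Geo.specialLinear (Fin 3) F := hMS hyM
        have h9 : y ^ (3 * 3) = 1 := orderOf_dvd_iff_pow_eq_one.1 (three_mul_dvd hyS hz)
        have hord' : orderOf y = orderOf ((x : M) : GL3) := by
          rw [hy, show (g : GL3)⁻¹ * ((x : M) : GL3) * g = MulAut.conj (g : GL3)⁻¹ ((x : M) : GL3) by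
            simp]
          exact orderOf_injective (MulAut.conj (g : GL3)⁻¹).toMonoidHom (MulEquiv.injective _) _
        have h1 : orderOf ((x : M) : GL3) ∣ 9 := by rw [← hord']; exact orderOf_dvd_of_pow_eq_one h9
        have h2 : orderOf ((x : M) : GL3) ∣ m := by
          rw [← hj, ← hord]; exact orderOf_pow_dvd j
        exact orderOf_dvd_iff_pow_eq_one.1 ((Nat.dvd_gcd h2 h1).trans (gcd_nine q).1)
      · push Not at hs
        exfalso
        refine hg (Subgroup.mem_subgroupOf.2 ⟨g.2, SL3.Singer.Odd.mem_normalizer hK hy3 hs ?_⟩)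
        have : (g : GL3) * y ^ 3 * (g : GL3)⁻¹ = ((x : M) : GL3) ^ 3 := by
          rw [hy, pow_succ, pow_succ, pow_one, pow_succ, pow_succ, pow_one]; group
        rw [← Units.val_mul, ← Units.val_mul, this, ← hj, ← pow_mul, Units.val_pow_eq_pow_val]
        exact K.pow_mem hcK _
    · intro h
      obtain ⟨z, hz⟩ := (mem_iff_cube hK hcK (hMS hcM) hxz).2 h
      have hcomm : ((x : M) : GL3) * (g : GL3) = (g : GL3) * ((x : M) : GL3) := Units.ext (by
        rw [Units.val_mul, Units.val_mul, hz]; simp)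
      have : (g : M)⁻¹ * (x : M)⁻¹ * g = (x : M)⁻¹ := Subtype.ext (by
        simp only [Subgroup.coe_mul, Subgroup.coe_inv]
        rw [← _root_.mul_inv_rev, hcomm, _root_.mul_inv_rev]; group)
      rw [this]
      exact N.inv_mem (hCN x.2)
  -- the other cosets
  letI : MulAction C {y : M ⧸ N // y ≠ ((1 : M) : M ⧸ N)} :=
    { smul := fun x y => ⟨(x : M) • y.1, fun e => y.2 (by
        have h1 : ((x : M)⁻¹) • ((1 : M) : M ⧸ N) = ((1 : M) : M ⧸ N) := by
          rw [MulAction.Quotient.smul_coe, QuotientGroup.eq, smul_eq_mul]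
          simpa using hCN x.2
        calc y.1 = (x : M)⁻¹ • ((x : M) • y.1) := (inv_smul_smul _ _).symm
          _ = _ := by rw [e, h1])⟩
      one_smul := fun y => Subtype.ext (one_smul M y.1)
      mul_smul := fun a b y => Subtype.ext (mul_smul (a : M) (b : M) y.1) }
  haveI : IsCyclic C := isCyclic_of_surjective _ (Subgroup.subgroupOfEquivOfLe hCle).symm.surjective
  letI : CommGroup C := IsCyclic.commGroup
  have hZ : Nat.card (powMonoidHom 3 : C →* C).ker = Nat.gcd 3 (q + 1) := by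
    rw [IsCyclic.card_powMonoidHom_ker, hCcard, (gcd_nine q).2]
  have horb : ∀ y : {y : M ⧸ N // y ≠ ((1 : M) : M ⧸ N)},
      Nat.card (MulAction.orbit C y) = m / Nat.gcd 3 (q + 1) := by
    rintro ⟨y, hy⟩
    induction y using QuotientGroup.induction_on with | _ g => ?_
    have hg : g ∉ N := fun h => hy (QuotientGroup.eq.2 (by simpa using h))
    have hst : MulAction.stabilizer C (⟨_, hy⟩ : {y : M ⧸ N // y ≠ ((1 : M) : M ⧸ N)}) =
        (powMonoidHom 3 : C →* C).ker := by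
      ext x
      rw [MulAction.mem_stabilizer_iff, MonoidHom.mem_ker, powMonoidHom_apply]
      constructor
      · exact fun h => Subtype.ext (Subtype.ext ((hstab g x hg).1 (congrArg Subtype.val h)))
      · exact fun h => Subtype.ext ((hstab g x hg).2 (congrArg (fun z : C => ((z : M) : GL3)) h))
    have h := Nat.card_congr (MulAction.orbitProdStabilizerEquivGroup C
      (⟨_, hy⟩ : {y : M ⧸ N // y ≠ ((1 : M) : M ⧸ N)}))
    rw [Nat.card_prod, hst, hZ, hCcard] at h
    rw [← h, Nat.mul_div_cancel _ (Nat.gcd_pos_of_pos_left _ (by norm_num))]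
  refine ⟨Nat.card (MulAction.orbitRel.Quotient C {y : M ⧸ N // y ≠ ((1 : M) : M ⧸ N)}), hν, hcardN, ?_⟩
  haveI : Fintype (M ⧸ N) := Fintype.ofFinite _
  have hY : Nat.card {y : M ⧸ N // y ≠ ((1 : M) : M ⧸ N)} =
      Nat.card (MulAction.orbitRel.Quotient C {y : M ⧸ N // y ≠ ((1 : M) : M ⧸ N)}) *
        (m / Nat.gcd 3 (q + 1)) := by
    rw [Nat.card_congr (MulAction.selfEquivSigmaOrbits C _), Nat.card_sigma]
    simp only [horb, Finset.sum_const, smul_eq_mul, Finset.card_univ, Nat.card_eq_fintype_card]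
  have hX : Nat.card (M ⧸ N) = 1 + Nat.card {y : M ⧸ N // y ≠ ((1 : M) : M ⧸ N)} := by
    rw [Nat.card_eq_fintype_card, Nat.card_eq_fintype_card, Fintype.card_subtype_compl, Fintype.card_subtype_eq]
    have : 0 < Fintype.card (M ⧸ N) := Fintype.card_pos
    omega
  rw [N.card_eq_card_quotient_mul_card_subgroup, hNcard, hX, hY, mul_comm]

/-- for `q = 11` an overgroup of even order has three cosets in the normaliser of the field -/
theorem card_ne_eleven (hK : Cfsg.Geo.IsFieldSubalgebra 3 K) {M : Subgroup GL3}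
    (hMS : M ≤ Cfsg.Geo.specialLinear (Fin 3) F) {c : GL3} (hcM : c ∈ M) (hcK : (c : Mat) ∈ K)
    (hq : q = 11) (hord : orderOf c = q ^ 2 - q + 1) (hc1 : ∀ z : F, (c : Mat) ≠ z • 1)
    (hall : ∀ x ∈ M, (x : Mat) ∈ K → x ∈ Subgroup.zpowers c) (hev : Even (Nat.card M)) :
    Nat.card ↥(M ⊓ Cfsg.Geo.subalgebraNormalizer K) ≠ q ^ 2 - q + 1 := by
  classical
  subst hq
  intro hN
  obtain ⟨ν, t, -, hν, hcard⟩ := card_eq hK hMS hcM hcK hord hc1 hall
  rw [show (11 : ℕ) ^ 2 - 11 + 1 = 111 by norm_num] at hord hN hν hcard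
  rw [show 111 / Nat.gcd 3 (11 + 1) = 37 by norm_num] at hcard
  rw [hN] at hν
  obtain rfl : ν = 1 := by omega
  rw [one_mul] at hcard
  haveI : Fact (Nat.Prime 37) := ⟨by norm_num⟩
  haveI : Fact (Nat.Prime 2) := ⟨Nat.prime_two⟩
  have hzN : Subgroup.zpowers c = M ⊓ Cfsg.Geo.subalgebraNormalizer K :=
    Subgroup.eq_of_le_of_card_ge (Subgroup.zpowers_le.2 ⟨hcM, mem_normalizer_self hK hcK⟩)
      (by rw [Nat.card_zpowers, hord, hN])
  set e : GL3 := c ^ 3 with he
  have heM : e ∈ M := pow_mem hcM 3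
  have heK : (e : Mat) ∈ K := by rw [he, Units.val_pow_eq_pow_val]; exact K.pow_mem hcK 3
  have hne : ∀ j, ¬ 37 ∣ j → ∀ z : F, ((e ^ j : GL3) : Mat) ≠ z • 1 := fun j hj z h => by
    rw [he, ← pow_mul] at h
    have := three_mul_dvd (hMS hcM) h
    rw [hord] at this
    omega
  have hepow : orderOf (⟨e, heM⟩ : M) = 37 := by
    rw [Subgroup.orderOf_mk, he, orderOf_pow_of_dvd (by norm_num) (by rw [hord]; norm_num), hord]
  obtain ⟨P, hP⟩ : ∃ P : Sylow 37 M, (P : Subgroup M) = Subgroup.zpowers ⟨e, heM⟩ := by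
    obtain ⟨P, hP⟩ := (IsPGroup.of_card (p := 37) (n := 1) (G := Subgroup.zpowers (⟨e, heM⟩ : M))
      (by rw [Nat.card_zpowers, hepow, pow_one])).exists_le_sylow
    refine ⟨P, (Subgroup.eq_of_le_of_card_ge hP ?_).symm⟩
    obtain ⟨k, hk⟩ := P.2.exists_card_eq
    rw [Nat.card_zpowers, hepow, hk]
    rcases Nat.lt_or_ge k 2 with h | h
    · exact (Nat.pow_le_pow_right (by norm_num) (Nat.le_of_lt_succ h)).trans (by norm_num)
    · exfalso
      have h2 : 37 ^ 2 ∣ Nat.card M :=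
        (pow_dvd_pow 37 h).trans (hk ▸ Subgroup.card_subgroup_dvd_card (P : Subgroup M))
      rw [hcard] at h2
      omega
  have heP : (⟨e, heM⟩ : M) ∈ (P : Subgroup M) := hP ▸ Subgroup.mem_zpowers _
  have hNC : Subgroup.normalizer ((P : Subgroup M) : Set M) ≤ Subgroup.centralizer ((P : Subgroup M) : Set M) := by
    intro g hg
    have hge := (Subgroup.mem_normalizer_iff.1 hg _).1 heP
    rw [hP] at hge
    obtain ⟨i, hi⟩ := exists_pow (c := e) (x := ((g * ⟨e, heM⟩ * g⁻¹ : M) : GL3)) (by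
      obtain ⟨i, hi⟩ := hge
      exact ⟨i, by simpa using congrArg Subtype.val hi⟩)
    have hgK : ((g : GL3) : Mat) * (e : Mat) * (((g : GL3)⁻¹ : GL3) : Mat) ∈ K := by
      rw [← Units.val_mul, ← Units.val_mul]
      simp only [Subgroup.coe_mul, Subgroup.coe_inv] at hi
      rw [← hi, Units.val_pow_eq_pow_val]
      exact K.pow_mem heK _
    obtain ⟨j, hj⟩ := hzN.symm.le ⟨g.2, SL3.Singer.Odd.mem_normalizer hK heK
      (fun z => by simpa using hne 1 (by norm_num) z) hgK⟩
    simp only at hj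
    rw [hP, Subgroup.mem_centralizer_iff]
    rintro _ ⟨l, rfl⟩
    refine Subtype.ext ?_
    simp only [Subgroup.coe_mul, SubgroupClass.coe_zpow]
    rw [← hj, he, ← zpow_natCast, ← _root_.zpow_mul, ← _root_.zpow_add, ← _root_.zpow_add, add_comm]
  set Q := (MonoidHom.transferSylow P hNC).ker
  have hQcompl := MonoidHom.ker_transferSylow_isComplement' P hNC
  have hPc : Nat.card (P : Subgroup M) = 37 := by rw [hP, Nat.card_zpowers, hepow]
  have hQ : Nat.card Q * 37 = Nat.card M := by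
    rw [← hQcompl.card_mul_card, hPc]
  have hidx : Q.index = 37 := by
    have := Q.card_mul_index
    rw [← hQ] at this
    exact Nat.eq_of_mul_eq_mul_left Nat.card_pos this
  have h2Q : 2 ∣ Nat.card Q := by
    have := even_iff_two_dvd.1 hev
    omega
  let S : Sylow 2 Q := default
  have hsup := Sylow.normalizer_sup_eq_top S
  set T := Subgroup.normalizer (((S : Subgroup Q).map Q.subtype : Subgroup M) : Set M)
  have h37 : 37 ∣ Nat.card T := by
    have hm : T.map (QuotientGroup.mk' Q) = ⊤ := by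
      have := congrArg (Subgroup.map (QuotientGroup.mk' Q)) hsup
      rwa [Subgroup.map_sup, (Subgroup.map_eq_bot_iff _).2 (QuotientGroup.ker_mk' Q).ge, sup_bot_eq,
        Subgroup.map_top_of_surjective _ (QuotientGroup.mk'_surjective Q)] at this
    have hd := Subgroup.card_map_dvd T (QuotientGroup.mk' Q)
    rwa [hm, Subgroup.card_top, ← Subgroup.index, hidx] at hd
  obtain ⟨⟨g, hgT⟩, hg⟩ := exists_prime_orderOf_dvd_card' 37 h37
  rw [Subgroup.orderOf_mk] at hg
  obtain ⟨R, hR⟩ := (IsPGroup.of_card (p := 37) (n := 1) (G := Subgroup.zpowers g)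
    (by rw [Nat.card_zpowers, hg, pow_one])).exists_le_sylow
  obtain ⟨h, hh⟩ := MulAction.exists_smul_eq M P R
  -- a conjugate of the Sylow subgroup normalised by `e`
  set X : Subgroup M := ((S : Subgroup Q).map Q.subtype).map (MulAut.conj h⁻¹).toMonoidHom
  have hx : h⁻¹ * g * h ∈ (P : Subgroup M) := by
    have hgR : g ∈ ((h • P : Sylow 37 M) : Subgroup M) := hh ▸ hR (Subgroup.mem_zpowers g)
    rw [Sylow.coe_subgroup_smul, Subgroup.mem_pointwise_smul_iff_inv_smul_mem] at hgR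
    simpa [MulAut.smul_def, mul_assoc] using hgR
  have heN : (⟨e, heM⟩ : M) ∈ Subgroup.normalizer (X : Set M) := by
    have hgen : Subgroup.zpowers (h⁻¹ * g * h) = (P : Subgroup M) := by
      refine Subgroup.eq_of_le_of_card_ge (Subgroup.zpowers_le.2 hx) (le_of_eq ?_)
      rw [hP, Nat.card_zpowers, Nat.card_zpowers, hepow, ← hg]
      exact (orderOf_injective (MulAut.conj h⁻¹).toMonoidHom (MulEquiv.injective _) g).symm.trans (by simp)
    refine (Subgroup.zpowers_le.2 ?_) (hgen ▸ heP)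
    have := Subgroup.le_normalizer_map (H := (S : Subgroup Q).map Q.subtype) (MulAut.conj h⁻¹).toMonoidHom
      (Subgroup.mem_map_of_mem _ hgT)
    simpa [X] using this
  set E := X.map M.subtype
  have hEcard : Nat.card E = Nat.card (S : Subgroup Q) := by
    rw [Subgroup.card_map_of_injective M.subtype_injective,
      Subgroup.card_map_of_injective (MulEquiv.injective (MulAut.conj h⁻¹)),
      Subgroup.card_map_of_injective Q.subtype_injective]
  have hE2 : IsPGroup 2 E := by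
    obtain ⟨n, hn⟩ := S.2.exists_card_eq
    exact IsPGroup.of_card (hEcard.trans hn)
  haveI := hE2.isNilpotent
  have hE1 : E ≠ ⊥ := fun h0 => by
    rw [h0, Subgroup.card_bot] at hEcard
    have := S.dvd_card_of_dvd_card h2Q
    rw [← hEcard] at this
    norm_num at this
  have hEM : E ≤ M := Subgroup.map_subtype_le X
  set M' := Subgroup.normalizer (E : Set GL3) ⊓ M
  have heM' : e ∈ M' := ⟨Subgroup.le_normalizer_map M.subtype ⟨_, heN, rfl⟩, heM⟩
  have hle := SL3.Singer.Odd.le_normalizer_of_solvable hK (M := M') (E := E) (c := e)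
    (inf_le_right.trans hMS) heM' heK (le_inf Subgroup.le_normalizer hEM)
    (fun g hg x hx => (Subgroup.mem_normalizer_iff.1 hg.1 x).1 hx) inferInstance
    (fun hs => hE1 ((Subgroup.eq_bot_iff_forall _).2 fun x hx => by
      obtain ⟨z, hz⟩ := (Cfsg.Geo.mem_scalars_iff x).1 (hs hx)
      have h3 := three_mul_dvd (hMS (hEM hx)) (j := 1) (z := (z : F)) (by rw [pow_one]; exact hz)
      obtain ⟨k, hk⟩ := hE2 ⟨x, hx⟩
      have h2 : orderOf x ∣ 2 ^ k := orderOf_dvd_of_pow_eq_one (congrArg Subtype.val hk)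
      exact orderOf_eq_one_iff.1 (Nat.eq_one_of_dvd_coprimes (Nat.Coprime.pow_right k (by norm_num)) h3 h2)))
    (fun d h1 h3 z => hne d (by omega) z) (fun _ d h1 h9 z => hne (3 * d) (by omega) z)
  have hEc : E ≤ Subgroup.zpowers c := fun x hx => hzN.ge ⟨hEM hx, hle ⟨Subgroup.le_normalizer hx, hEM hx⟩⟩
  have hdvd := Subgroup.card_dvd_of_le hEc
  rw [Nat.card_zpowers, hord] at hdvd
  obtain ⟨n, hn⟩ := hE2.exists_card_eq
  refine hE1 (Subgroup.card_eq_one.1 ?_)
  exact Nat.eq_one_of_dvd_coprimes (Nat.Coprime.pow_right n (show Nat.Coprime 111 2 by norm_num)) hdvd hn.dvd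

end Normalizer

end Cfsg.Agent.Forms.Max.SU3.Singer
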