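import Cfsg.Agent.Lib.Forms.Max.SL3.Singer.Odd
import Cfsg.Agent.Lib.Forms.Max.UnitaryBase
import Cfsg.Agent.Lib.Forms.Max.UnitExtField.Count

/-!
# The cyclic group of norm one in a cubic field closed under the adjoint

The adjoint is an involution of the field; the elements `x` with `x * adj x = 1` are the quotients `z / adj z`, a
cyclic group of order `q ^ 3 + 1`, and those of determinant one form a cyclic group of order `q ^ 2 - q + 1`.
-/

set_option autoImplicit false
set_option linter.unusedSectionVars false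
set_option linter.style.haveILetI false

namespace Cfsg.Agent.Forms.Max.SU3.Singer

open Matrix Cfsg.Agent.Classical.Unitary Cfsg.Agent.Forms

universe u

variable {F : Type u} [Field F] [Fintype F] {q : ℕ}

local notation "Vec" => (Fin 3 → F)
local notation "H" => Cfsg.hermForm 3 F q
local notation "Mat" => Matrix (Fin 3) (Fin 3) F
local notation "GL3" => GL (Fin 3) F
local notation "SUn" => (Cfsg.GU 3 F q ⊓ Cfsg.Geo.specialLinear (Fin 3) F)

variable (hF : Fintype.card F = q ^ 2)
include hF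

/-- the adjoint for the Hermitian form -/
noncomputable def adj : Matrix (Fin 3) (Fin 3) F →+ Matrix (Fin 3) (Fin 3) F where
  toFun k := (k.map (HermStd.qHom hF))ᵀ
  map_zero' := by ext i j; simp [q_ne_zero hF]
  map_add' a b := by simp [Matrix.map_add (HermStd.qHom hF) (fun x y => map_add _ x y)]

theorem adj_apply (k : Mat) : adj hF k = (k.map (HermStd.qHom hF))ᵀ := rfl

theorem adj_mul (a b : Mat) : adj hF (a * b) = adj hF b * adj hF a := by
  simp [adj_apply, Matrix.map_mul, Matrix.transpose_mul]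

theorem adj_one : adj hF (1 : Mat) = 1 := by
  rw [adj_apply, Matrix.map_one _ (map_zero _) (map_one _), Matrix.transpose_one]

theorem adj_smul (c : F) (k : Mat) : adj hF (c • k) = (c ^ q) • adj hF k := by
  ext i j; simp [adj_apply, HermStd.qHom_apply, mul_pow]

theorem adj_adj (k : Mat) : adj hF (adj hF k) = k := by
  ext i j; simp [adj_apply, HermStd.qHom_apply, HermStd.pow_q_q hF]

theorem adj_det (k : Mat) : (adj hF k).det = k.det ^ q := by
  rw [adj_apply, Matrix.det_transpose, ← HermStd.qHom_apply hF, RingHom.map_det]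
  rfl

theorem H_adj (k : Mat) (u v : Vec) : H (k *ᵥ u) v = H u (adj hF k *ᵥ v) := by
  have hs : ∀ i, ((adj hF k *ᵥ v) i) ^ q = (kᵀ *ᵥ fun j => v j ^ q) i := fun i => by
    rw [← HermStd.qHom_apply hF, RingHom.map_mulVec, adj_apply, Matrix.transpose_map, Matrix.map_map]
    congr 2
    ext a b
    simp [HermStd.qHom_apply, HermStd.pow_q_q hF]
  rw [H_eq_dot, H_eq_dot, funext hs, Matrix.mulVec_transpose, dotProduct_comm (k *ᵥ u), dotProduct_mulVec,
    dotProduct_comm]

theorem eq_of_H {a b : Mat} (h : ∀ u v, H u (a *ᵥ v) = H u (b *ᵥ v)) : a = b := by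
  refine Matrix.ext_of_mulVec_single fun j => funext fun i => ?_
  have := h (Pi.single i 1) (Pi.single j 1)
  rw [H_eq_dot, H_eq_dot, single_dotProduct, single_dotProduct, one_mul, one_mul] at this
  have e := congrArg (· ^ q) this
  simpa [HermStd.pow_q_q hF] using e

theorem mem_GU_iff {g : GL3} : (∀ u v, H ((g : Mat) *ᵥ u) ((g : Mat) *ᵥ v) = H u v) ↔ adj hF g * (g : Mat) = 1 := by
  constructor
  · exact fun h => eq_of_H hF fun u v => by
      rw [← Matrix.mulVec_mulVec, ← H_adj hF, h, Matrix.one_mulVec]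
  · intro h u v
    rw [H_adj hF, Matrix.mulVec_mulVec, h, Matrix.one_mulVec]

variable {K : Subalgebra F (Matrix (Fin 3) (Fin 3) F)}

theorem adj_mem (hKa : Cfsg.Geo.IsAdjointClosedFor (Cfsg.hermForm 3 F q) K) {k : Mat} (hk : k ∈ K) :
    adj hF k ∈ K := by
  obtain ⟨k', hk', h⟩ := hKa k hk
  have : adj hF k = k' := eq_of_H hF fun u v => by rw [← H_adj hF, h]
  exact this ▸ hk'

set_option maxHeartbeats 1600000 in
/-- the cyclic group of the field inside the special unitary group -/
theorem exists_gen (hK : Cfsg.Geo.IsFieldSubalgebra 3 K)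
    (hKa : Cfsg.Geo.IsAdjointClosedFor (Cfsg.hermForm 3 F q) K) :
    ∃ c : GL3, (c : Mat) ∈ K ∧ c ∈ SUn ∧ orderOf c = q ^ 2 - q + 1 ∧
      ∀ x : GL3, x ∈ SUn → (x : Mat) ∈ K → x ∈ Subgroup.zpowers c := by
  classical
  letI : CommRing K :=
    { (inferInstance : Ring K) with mul_comm := fun x y => Subtype.ext (hK.comm x x.2 y y.2) }
  haveI : Nontrivial K := ⟨⟨0, 1, fun e => zero_ne_one (α := Mat) (congrArg Subtype.val e)⟩⟩
  haveI : NoZeroDivisors K := ⟨fun {x y} e => or_iff_not_imp_left.2 fun hx => by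
    obtain ⟨w, -, hw⟩ := hK.inv x x.2 fun h => hx (Subtype.ext h)
    have e' : (x : Mat) * y = 0 := congrArg Subtype.val e
    exact Subtype.ext (by rw [← one_mul (y : Mat), ← mul_eq_one_comm.1 hw, mul_assoc, e', mul_zero]; rfl)⟩
  haveI : IsDomain K := NoZeroDivisors.to_isDomain _
  haveI : Finite K := Subtype.finite
  haveI : Fintype K := Fintype.ofFinite _
  letI : Field K := Fintype.fieldOfDomain K
  have hq1 := HermStd.one_lt_q hF
  -- the involution
  let τ : K →+* K :=
    { toFun := fun x => ⟨adj hF x, adj_mem hF hKa x.2⟩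
      map_one' := Subtype.ext (adj_one hF)
      map_mul' := fun x y => Subtype.ext (by
        show adj hF ((x : Mat) * y) = adj hF x * adj hF y
        rw [adj_mul]
        exact hK.comm _ (adj_mem hF hKa y.2) _ (adj_mem hF hKa x.2))
      map_zero' := Subtype.ext (map_zero (adj hF))
      map_add' := fun x y => Subtype.ext (map_add (adj hF) (x : Mat) y) }
  have hτv : ∀ x : K, ((τ x : K) : Mat) = adj hF x := fun x => rfl
  have hττ : ∀ x, τ (τ x) = x := fun x => Subtype.ext (by rw [hτv, hτv, adj_adj])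
  have hτF : ∀ a : F, τ (algebraMap F K a) = algebraMap F K (a ^ q) := fun a => Subtype.ext (by
    rw [hτv, Subalgebra.coe_algebraMap, Subalgebra.coe_algebraMap, Algebra.algebraMap_eq_smul_one,
      Algebra.algebraMap_eq_smul_one, adj_smul, adj_one])
  obtain ⟨w, hw⟩ := UnitExtField.exists_moved_scalar hF
  set W := algebraMap F K w with hW
  have hsub : W - τ W ≠ 0 := by
    rw [hW, hτF, ← map_sub]
    exact (map_ne_zero _).2 (sub_ne_zero.2 (Ne.symm hw))
  -- its fixed points
  let L : Subring K := RingHom.eqLocus τ (RingHom.id K)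
  have hLmem : ∀ x : K, x ∈ L ↔ τ x = x := fun x => Iff.rfl
  have hcardK : Nat.card K = (q ^ 3) ^ 2 := by
    have := Module.natCard_eq_pow_finrank (K := F) (V := K)
    rw [hK.finrank_eq, Nat.card_eq_fintype_card (α := F), hF] at this
    rw [this]; ring
  have hcardL : Nat.card L = q ^ 3 := by
    have hinj : Function.Injective fun p : L × L => (p.1 : K) + W * p.2 := by
      rintro ⟨⟨a, ha⟩, ⟨b, hb⟩⟩ ⟨⟨a', ha'⟩, ⟨b', hb'⟩⟩ e
      simp only [hLmem] at ha hb ha' hb'
      simp only at e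
      have e' := congrArg τ e
      simp only [map_add, map_mul, ha, hb, ha', hb'] at e'
      have hb2 : b = b' := mul_left_cancel₀ hsub (by linear_combination e - e')
      subst hb2
      have ha2 : a = a' := by linear_combination e
      subst ha2
      rfl
    have hsurj : Function.Surjective fun p : L × L => (p.1 : K) + W * p.2 := by
      intro z
      have hbfix : τ ((z - τ z) / (W - τ W)) = (z - τ z) / (W - τ W) := by
        rw [map_div₀, map_sub, map_sub, hττ, hττ, ← neg_sub z, ← neg_sub W, neg_div_neg_eq]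
      refine ⟨(⟨z - W * ((z - τ z) / (W - τ W)), ?_⟩, ⟨_, hbfix⟩), by simp⟩
      rw [hLmem, map_sub, map_mul, hbfix]
      field_simp
      ring
    have h := Nat.card_eq_of_bijective _ ⟨hinj, hsurj⟩
    rw [Nat.card_prod, hcardK, ← sq] at h
    exact Nat.pow_left_injective two_ne_zero h
  haveI : Finite L := Finite.of_injective _ Subtype.val_injective
  -- quotients `z / τ z`
  let τu : Kˣ →* Kˣ := Units.map τ.toMonoidHom
  let φ : Kˣ →* Kˣ :=
    { toFun := fun z => z / τu z
      map_one' := by simp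
      map_mul' := fun a b => by rw [map_mul, mul_div_mul_comm] }
  have hφ : ∀ z : Kˣ, φ z = z / τu z := fun z => rfl
  have hker : Nat.card φ.ker = q ^ 3 - 1 := by
    haveI : Nontrivial L := ⟨⟨0, 1, fun e => zero_ne_one (α := K) (congrArg Subtype.val e)⟩⟩
    have h1 : Nat.card φ.ker = Nat.card {x : L // x ≠ 0} := Nat.card_congr
      { toFun := fun z => ⟨⟨((z : Kˣ) : K), by
            have := z.2
            rw [MonoidHom.mem_ker, hφ, div_eq_one] at this
            rw [hLmem]; exact (congrArg Units.val this).symm⟩,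
          fun e => (z : Kˣ).ne_zero (congrArg Subtype.val e)⟩
        invFun := fun x => ⟨Units.mk0 ((x : L) : K) fun e => x.2 (Subtype.ext e), by
          rw [MonoidHom.mem_ker, hφ, div_eq_one]
          exact Units.ext (x : L).2.symm⟩
        left_inv := fun z => Subtype.ext (Units.ext rfl)
        right_inv := fun x => Subtype.ext (Subtype.ext rfl) }
    haveI : Fintype L := Fintype.ofFinite L
    rw [h1, Nat.card_eq_fintype_card, Fintype.card_subtype_compl, Fintype.card_subtype_eq,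
      ← Nat.card_eq_fintype_card, hcardL]
  have hcardU : Nat.card Kˣ = (q ^ 3) ^ 2 - 1 := by rw [Nat.card_units, hcardK]
  have hrange : Nat.card φ.range = q ^ 3 + 1 := by
    have h := φ.ker.card_mul_index
    rw [Subgroup.index_ker, hker, hcardU] at h
    have h8 : 2 ^ 3 ≤ q ^ 3 := Nat.pow_le_pow_left hq1 3
    refine Nat.eq_of_mul_eq_mul_left (show 0 < q ^ 3 - 1 by omega) (h.trans ?_)
    obtain ⟨m, hm⟩ : ∃ m, q ^ 3 = m + 1 := ⟨q ^ 3 - 1, by omega⟩
    rw [hm, Nat.add_sub_cancel]
    refine Nat.sub_eq_of_eq_add ?_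
    ring
  obtain ⟨g, hg⟩ := IsCyclic.exists_generator (α := Kˣ)
  set u := φ g with hu
  have hugen : φ.range = Subgroup.zpowers u := le_antisymm (by
    rintro _ ⟨z, rfl⟩
    obtain ⟨i, rfl⟩ := hg z
    exact ⟨i, (map_zpow φ g i).symm⟩) (Subgroup.zpowers_le.2 ⟨g, rfl⟩)
  have hordu : orderOf u = q ^ 3 + 1 := by rw [← Nat.card_zpowers, ← hugen, hrange]
  -- the kernel of the norm
  have hnorm : ∀ x : Kˣ, τu x * x = 1 → x ∈ φ.range := by
    intro x hx
    by_cases h1 : (x : K) = -1
    · refine ⟨Units.mk0 _ hsub, Units.ext ?_⟩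
      simp only [hφ, Units.val_div_eq_div_val, Units.val_mk0, τu, Units.coe_map, RingHom.toMonoidHom_eq_coe,
        MonoidHom.coe_coe, map_sub, hττ, h1]
      rw [div_eq_iff (sub_ne_zero.2 fun e => hsub (by rw [e, sub_self]))]
      ring
    · have hne : 1 + (x : K) ≠ 0 := fun e => h1 (by linear_combination e)
      refine ⟨Units.mk0 _ hne, Units.ext ?_⟩
      have hτne : τ (1 + (x : K)) ≠ 0 := (map_ne_zero τ).2 hne
      simp only [hφ, Units.val_div_eq_div_val, Units.val_mk0, τu, Units.coe_map, RingHom.toMonoidHom_eq_coe,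
        MonoidHom.coe_coe]
      rw [div_eq_iff hτne, map_add, map_one]
      have := congrArg Units.val hx
      simp only [τu, Units.val_mul, Units.coe_map, RingHom.toMonoidHom_eq_coe, MonoidHom.coe_coe,
        Units.val_one] at this
      linear_combination -this
  -- determinants
  let Φ : Kˣ →* GL3 := Units.map (K.val : K →* Mat)
  have hΦ : Function.Injective Φ := Units.map_injective Subtype.val_injective
  have hΦv : ∀ x : Kˣ, ((Φ x : GL3) : Mat) = ((x : K) : Mat) := fun x => rfl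
  let δ : Kˣ →* Fˣ := (Matrix.GeneralLinearGroup.det : GL3 →* Fˣ).comp Φ
  have hdetnorm : ∀ x : K, (x : Mat).det = Algebra.norm F x := by
    intro x
    have hv : (Pi.single 0 1 : Vec) ≠ 0 := by simp
    let L' : K →ₗ[F] Vec :=
      { toFun := fun k => (k : Mat) *ᵥ Pi.single 0 1
        map_add' := fun a b => Matrix.add_mulVec _ _ _
        map_smul' := fun c a => Matrix.smul_mulVec _ _ _ }
    have hbij : Function.Bijective L' := by
      refine ⟨fun a b e => ?_, fun y => ?_⟩
      · refine Subtype.ext (sub_eq_zero.1 ?_)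
        have := Forms.Max.SL3.Singer.eq_scalar hK (K.sub_mem a.2 b.2) hv (c := 0)
          (by rw [zero_smul, Matrix.sub_mulVec, sub_eq_zero]; exact e)
        simpa using this
      · obtain ⟨k, hk, e⟩ := Forms.Max.SL3.Singer.exists_mulVec hK hv y
        exact ⟨⟨k, hk⟩, e⟩
    let E := LinearEquiv.ofBijective L' hbij
    rw [Algebra.norm_apply, ← LinearMap.det_conj (Algebra.lmul F K x) E, ← LinearMap.det_toLin']
    congr 1
    refine LinearMap.ext fun y => ?_
    obtain ⟨k, rfl⟩ := E.surjective y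
    simp only [LinearMap.coe_comp, LinearEquiv.coe_coe, Function.comp_apply, E.symm_apply_apply,
      Matrix.toLin'_apply]
    show (x : Mat) *ᵥ ((k : Mat) *ᵥ Pi.single 0 1) = ((x * k : K) : Mat) *ᵥ Pi.single 0 1
    rw [Matrix.mulVec_mulVec]
    rfl
  have hδsurj : Function.Surjective δ := fun a => by
    obtain ⟨x, hx⟩ := FiniteField.unitsMap_norm_surjective F K a
    exact ⟨x, Units.ext ((hdetnorm _).trans (congrArg Units.val hx))⟩
  have hδg : orderOf (δ g) = q ^ 2 - 1 := by
    rw [orderOf_eq_card_of_forall_mem_zpowers (fun a => ?_), Nat.card_units, Nat.card_eq_fintype_card, hF]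
    obtain ⟨x, rfl⟩ := hδsurj a
    obtain ⟨i, rfl⟩ := hg x
    exact ⟨i, (map_zpow δ g i).symm⟩
  have hδτ : ∀ x : Kˣ, δ (τu x) = δ x ^ q := fun x => Units.ext (by
    simp only [δ, MonoidHom.comp_apply, Units.val_pow_eq_pow_val, Matrix.GeneralLinearGroup.val_det_apply, hΦv]
    exact adj_det hF _)
  have hδu : orderOf (δ u) = q + 1 := by
    obtain ⟨e, he⟩ : ∃ e, q = e + 1 := ⟨q - 1, by omega⟩
    have h2 : δ u = (δ g ^ e)⁻¹ := by
      rw [hu, hφ, map_div, hδτ, he, pow_succ', div_mul_cancel_left]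
    have hsq : q ^ 2 - 1 = e * (q + 1) := by
      rw [he]; refine Nat.sub_eq_of_eq_add ?_; ring
    rw [h2, orderOf_inv, orderOf_pow_of_dvd (by omega) (by rw [hδg, hsq]; exact dvd_mul_right _ _), hδg, hsq,
      Nat.mul_div_cancel_left _ (by omega)]
  set c := u ^ (q + 1) with hc
  have hcub : q ^ 3 + 1 = (q + 1) * (q ^ 2 - q + 1) := by
    obtain ⟨e, he⟩ : ∃ e, q ^ 2 = q + e := ⟨q ^ 2 - q, by
      have : q ≤ q ^ 2 := Nat.le_self_pow two_ne_zero q
      omega⟩
    rw [he, Nat.add_sub_cancel_left]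
    nlinarith
  have hmem : ∀ x : Kˣ, τu x * x = 1 → δ x = 1 → x ∈ Subgroup.zpowers c := by
    intro x hx hd
    obtain ⟨i, hi⟩ := hugen.le (hnorm x hx)
    simp only at hi
    rw [← hi, map_zpow] at hd
    have := orderOf_dvd_iff_zpow_eq_one.2 hd
    rw [hδu] at this
    obtain ⟨t, rfl⟩ := this
    refine ⟨t, ?_⟩
    show c ^ t = x
    rw [← hi, hc, ← zpow_natCast, ← _root_.zpow_mul]
  have hucond : τu u * u = 1 := by
    rw [hu, hφ, map_div]
    have : τu (τu g) = g := Units.ext (hττ _)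
    rw [this, div_mul_div_cancel, div_self']
  have hSU : ∀ x : Kˣ, Φ x ∈ SUn ↔ τu x * x = 1 ∧ δ x = 1 := fun x => by
    rw [Unitary.mem_SUn, mem_GU_iff hF]
    refine and_congr ?_ ?_
    · rw [Units.ext_iff, Subtype.ext_iff]; rfl
    · rw [Units.ext_iff]; rfl
  refine ⟨Φ c, (c : K).2, (hSU c).2 ⟨?_, ?_⟩, ?_, ?_⟩
  · rw [hc, map_pow, ← mul_pow, hucond, one_pow]
  · rw [hc, map_pow, ← hδu, pow_orderOf_eq_one]
  · rw [orderOf_injective Φ hΦ, hc, orderOf_pow_of_dvd (by omega) (by rw [hordu, hcub]; exact dvd_mul_right _ _),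
      hordu, hcub, Nat.mul_div_cancel_left _ (by omega)]
  · intro x hx hxK
    have hx0 : (⟨(x : Mat), hxK⟩ : K) ≠ 0 := fun e => x.ne_zero (congrArg Subtype.val e)
    have e : Φ (Units.mk0 _ hx0) = x := Units.ext rfl
    rw [← e] at hx ⊢
    obtain ⟨t, ht⟩ := hmem _ ((hSU _).1 hx).1 ((hSU _).1 hx).2
    exact ⟨t, by rw [← ht]; exact (map_zpow Φ c t).symm⟩

omit hF in
theorem three_mul_dvd {c : GL3} (hc : c ∈ Cfsg.Geo.specialLinear (Fin 3) F) {j : ℕ} {z : F}
    (h : ((c ^ j : GL3) : Mat) = z • 1) : orderOf c ∣ 3 * j := by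
  have hd : ((c ^ j : GL3) : Mat).det = 1 := Aschbacher.mem_specialLinear.1 (pow_mem hc j)
  rw [h, Matrix.det_smul, Matrix.det_one, Fintype.card_fin, mul_one] at hd
  refine orderOf_dvd_of_pow_eq_one (Units.ext ?_)
  rw [mul_comm, pow_mul, Units.val_pow_eq_pow_val, h, _root_.smul_pow, one_pow, hd, one_smul, Units.val_one]

/-- the arithmetic hypotheses of `SL3.Singer.Odd.le_normalizer_of_solvable` -/
theorem good (hq3 : 3 ≤ q) (hq5 : q ≠ 5) {c : GL3} (hc : c ∈ SUn) (hord : orderOf c = q ^ 2 - q + 1) :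
    (∀ d, 1 ≤ d → d ≤ 3 → ∀ z : F, ((c ^ d : GL3) : Mat) ≠ z • 1) ∧
      (Fintype.card F % 3 = 1 → ∀ d, 1 ≤ d → d ≤ 9 → ∀ z : F, ((c ^ (3 * d) : GL3) : Mat) ≠ z • 1) := by
  have hq1 := HermStd.one_lt_q hF
  have hqq : q ≤ q ^ 2 := Nat.le_self_pow two_ne_zero q
  have key : ∀ j z, 1 ≤ j → ((c ^ j : GL3) : Mat) = z • 1 → q ^ 2 - q + 1 ∣ 3 * j ∧ q ^ 2 - q + 1 ≤ 3 * j :=
    fun j z hj e => by
      have h := three_mul_dvd (Subgroup.mem_inf.1 hc).2 e
      rw [hord] at h
      exact ⟨h, Nat.le_of_dvd (by omega) h⟩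
  refine ⟨fun d h1 h3 z e => ?_, fun hmod d h1 h9 z e => ?_⟩
  · obtain ⟨hd, hle⟩ := key d z h1 e
    have : q ≤ 3 := by
      by_contra h
      have : q * 4 ≤ q ^ 2 := by rw [pow_two]; exact Nat.mul_le_mul_left q (by omega)
      omega
    interval_cases q
    interval_cases d <;> norm_num at hd
  · obtain ⟨hd, hle⟩ := key _ z (by omega) e
    have : q ≤ 9 := by
      by_contra h
      have : q * 10 ≤ q ^ 2 := by rw [pow_two]; exact Nat.mul_le_mul_left q (by omega)
      omega
    rw [hF] at hmod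
    interval_cases q <;> simp at hq5 hmod hd ⊢ <;> omega

/-- the normaliser of the field does not contain the special unitary group -/
theorem not_le_normalizer (hK : Cfsg.Geo.IsFieldSubalgebra 3 K) {c : GL3} (hcK : (c : Mat) ∈ K)
    (hc1 : ∀ z : F, (c : Mat) ≠ z • 1) : ¬ SUn ≤ Cfsg.Geo.subalgebraNormalizer K := by
  intro hle
  obtain ⟨w, hw⟩ := UnitExtField.exists_moved_scalar hF
  have hb0 : w - w ^ q ≠ 0 := sub_ne_zero.2 (Ne.symm hw)
  have hb : w - w ^ q + (w - w ^ q) ^ q = 0 := by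
    rw [← HermStd.qHom_apply hF (w - w ^ q), map_sub, HermStd.qHom_apply, HermStd.qHom_apply,
      HermStd.pow_q_q hF]
    ring
  obtain ⟨v, -, hv0, hvv⟩ := Unitary.exists_iso hF (S := (⊤ : Submodule F Vec))
    (fun x _ hx => by
      obtain ⟨i, hi⟩ := Function.ne_iff.1 hx
      refine ⟨Pi.single i 1, Submodule.mem_top, ?_⟩
      have : (fun j => (Pi.single i 1 : Vec) j ^ q) = Pi.single i 1 := funext fun j => by
        rcases eq_or_ne j i with rfl | h
        · simp
        · simp [h, zero_pow (q_ne_zero hF)]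
      rw [H_eq_dot, this, dotProduct_single, mul_one]
      exact hi)
    (by rw [finrank_top, Module.finrank_fintype_fun_eq_card, Fintype.card_fin]; norm_num)
  obtain ⟨t, ht, htx⟩ := Unitary.exists_tv hF hvv hb
  obtain ⟨φ, hφ⟩ : ∃ φ : Vec →ₗ[F] F, ∀ x, φ x = (w - w ^ q) * H x v :=
    ⟨(w - w ^ q) • hlin q v, fun x => rfl⟩
  set y := (t : Mat) * (c : Mat) * ((t⁻¹ : GL3) : Mat) with hy
  have hyK : y ∈ K := (hle ht _).1 hcK
  have hyc : y = (c : Mat) := by
    by_contra hne
    obtain ⟨s, hsK, hs⟩ := hK.inv (y - c) (K.sub_mem hyK hcK) (sub_ne_zero.2 hne)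
    let ψ : Vec →ₗ[F] F := φ.comp (Matrix.mulVecLin (c : Mat))
    obtain ⟨x, hxne, hx1, hx2⟩ : ∃ x : Vec, x ≠ 0 ∧ φ x = 0 ∧ ψ x = 0 := by
      let P : Vec →ₗ[F] F × F := φ.prod ψ
      have : LinearMap.ker P ≠ ⊥ := LinearMap.ker_ne_bot_of_finrank_lt (by simp)
      obtain ⟨x, hx, hx0⟩ := Submodule.exists_mem_ne_zero_of_ne_bot this
      exact ⟨x, hx0, congrArg Prod.fst (LinearMap.mem_ker.1 hx), congrArg Prod.snd (LinearMap.mem_ker.1 hx)⟩
    have htfix : (t : Mat) *ᵥ x = x := by rw [htx, ← hφ, hx1, zero_smul, add_zero]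
    have htc : (t : Mat) *ᵥ ((c : Mat) *ᵥ x) = (c : Mat) *ᵥ x := by
      rw [htx, ← hφ]
      have : φ ((c : Mat) *ᵥ x) = 0 := hx2
      rw [this, zero_smul, add_zero]
    have htinv : ((t⁻¹ : GL3) : Mat) *ᵥ x = x := by
      conv_lhs => rw [← htfix]
      rw [Matrix.mulVec_mulVec, Units.inv_mul, Matrix.one_mulVec]
    have hyx : (y - (c : Mat)) *ᵥ x = 0 := by
      rw [Matrix.sub_mulVec, hy, ← Matrix.mulVec_mulVec, ← Matrix.mulVec_mulVec, htinv, htc, sub_self]
    refine hxne ?_
    rw [← Matrix.one_mulVec x, ← mul_eq_one_comm.1 hs, ← Matrix.mulVec_mulVec, hyx, Matrix.mulVec_zero]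
  have hcomm : (t : Mat) * c = c * t := by
    have := congrArg (· * (t : Mat)) hyc
    simpa [hy, mul_assoc] using this
  have htK : (t : Mat) ∈ K := Forms.Max.SL3.Singer.Odd.mem_of_comm hK hcK hc1 hcomm
  have hfix : (t : Mat) *ᵥ v = (1 : F) • v := by rw [htx, hvv, mul_zero, zero_smul, add_zero, one_smul]
  have h1 := Forms.Max.SL3.Singer.eq_scalar hK htK hv0 hfix
  obtain ⟨i, hi⟩ := Function.ne_iff.1 hv0
  have hne : ¬ ∀ x : Vec, H x v = 0 := fun h => by
    have := h (Pi.single i 1)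
    rw [H_eq_dot, single_dotProduct, one_mul] at this
    exact hi (eq_zero_of_pow_eq_zero this)
  refine hne fun x => ?_
  have := htx x
  rw [h1, one_smul, Matrix.one_mulVec] at this
  have h2 : ((w - w ^ q) * H x v) • v = 0 := by simpa using this.symm
  exact (mul_eq_zero.1 ((smul_eq_zero.1 h2).resolve_right hv0)).resolve_left hb0

end Cfsg.Agent.Forms.Max.SU3.Singer
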