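import Cfsg.Agent.Lib.Forms.Max.SU3.Singer.Transvection
import Cfsg.Agent.Lib.Forms.Max.SU3.Singer.Bound
import Cfsg.Agent.Lib.Forms.Max.SU3.Singer.Arith

/-!
# A transvection of a group containing a Singer group gives a full transvection group
-/

set_option autoImplicit false
set_option linter.unusedSectionVars false

namespace Cfsg.Agent.Forms.Max.SU3.Singer

open Matrix Cfsg.Agent.Classical Cfsg.Agent.Classical.Unitary
open Cfsg.Agent.SimpleFacts.MinIndexPSUThree Cfsg.Agent.SimpleFacts.MinIndexPSUThree.Borel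

universe u

variable {F : Type u} [Field F] [Fintype F] {q : ℕ}

local notation "GL3" => GL (Fin 3) F
local notation "Mat" => Matrix (Fin 3) (Fin 3) F
local notation "SU3" => Cfsg.SU 3 F q
local notation "Pt" => IsoPt F q 3
local notation "SUn" => (Cfsg.GU 3 F q ⊓ Cfsg.Geo.specialLinear (Fin 3) F)

theorem eight_false {I k ν t : ℕ} (hI : Odd I) (hI513 : I ≤ 513) (hν : ν ∣ 3) (hk : k = I * 72)
    (hk' : k = ν * 57 * (1 + t * 19)) (hdvd : k ∣ 8 ^ 3 * (8 ^ 3 + 1) * (8 ^ 2 - 1)) : False := by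
  have h19 : 19 ∣ I := by
    have : 19 ∣ I * 72 := ⟨ν * 3 * (1 + t * 19), by rw [← hk, hk']; ring⟩
    exact (Nat.Coprime.dvd_of_dvd_mul_right (by norm_num) this)
  obtain ⟨c, rfl⟩ := h19
  subst hk
  have hc : c ≤ 27 := by omega
  rcases (Nat.dvd_prime Nat.prime_three).1 hν with rfl | rfl
  · obtain ⟨r, hr⟩ := hI
    have : c = 23 := by omega
    subst this
    norm_num at hdvd
  · obtain ⟨r, hr⟩ := hI
    omega

/-- a transvection forces the whole transvection group -/
theorem zg_le (hF : Fintype.card F = q ^ 2) (hq : 3 ≤ q) (hq5 : q ≠ 5) {M C : Subgroup GL3} (hM : M ≤ SUn)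
    (hCM : C ≤ M)
    (hC : ∀ c ∈ C, ∀ (x : Fin 3 → F) (a : F), x ≠ 0 → (c : Mat) *ᵥ x = a • x → (c : Mat) = a • 1)
    (hCcard : Nat.card C = q ^ 2 - q + 1)
    (hcount : q = 8 → ∃ ν t : ℕ, ν ∣ 3 ∧ Nat.card M = ν * 57 * (1 + t * 19))
    (B : Frame F q) {u : SU3} (hu : u ∈ M.comap (emb F q)) (huZ : u ∈ Group.Zg F q B.e) (hu1 : u ≠ 1) :
    Group.Zg F q B.e ≤ M.comap (emb F q) := by
  classical
  set K := M.comap (emb F q) with hK
  by_contra hnot
  have hz : Nat.card ↥(K ⊓ Group.Zg F q B.e) < q := by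
    refine lt_of_le_of_ne (Sub.card_Zs_le K B hF) fun e => hnot ?_
    have := Subgroup.eq_of_le_of_card_ge (inf_le_right : K ⊓ Group.Zg F q B.e ≤ Group.Zg F q B.e)
      (by rw [e, Group.card_Zg hF B])
    exact this ▸ inf_le_left
  obtain ⟨p, hp⟩ := CharP.exists F
  obtain ⟨n, hpp, hn⟩ := FiniteField.card F p
  have : Fact p.Prime := ⟨hpp⟩
  obtain ⟨f, -, hqf⟩ := (Nat.dvd_prime_pow hpp).1 ((hn.symm.trans hF) ▸ dvd_pow_self q two_ne_zero)
  obtain ⟨i, hi⟩ := Sub.card_Zs_pow K B hF p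
  have hV := card_Vs_le_q hF K B hz
  obtain ⟨jQ, hjQ⟩ := Sub.card_Qs_pow K B hF p
  obtain ⟨j, -, hj⟩ := (Nat.dvd_prime_pow hpp).1
    (show Nat.card (Sub.Vs K B hF) ∣ p ^ jQ from hjQ ▸ (Sub.card_Qs K B hF ▸ dvd_mul_left _ _))
  have hi1 : 1 ≤ i := by
    by_contra h
    rw [show i = 0 by omega, pow_zero] at hi
    have := (Nat.card_eq_one_iff_unique.1 hi).1
    exact hu1 (congrArg Subtype.val (Subsingleton.elim (⟨u, hu, huZ⟩ : ↥(K ⊓ Group.Zg F q B.e)) 1))
  have hif : i < f := (Nat.pow_lt_pow_iff_right hpp.one_lt).1 (by rw [← hi, ← hqf]; exact hz)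
  have hjf : j ≤ f := (Nat.pow_le_pow_iff_right hpp.one_lt).1 (by rw [← hj, ← hqf]; exact hV)
  have hg1 := Sub.card_Cs_dvd K B hF
  have hg2 := card_Cs_dvd_mul hF K B
  rw [hi] at hg2
  have hstab := stab_ge hF hM hCM hC B
  rw [← hK, hCcard, Sub.card_Stab, Sub.card_Qs K B hF, hi, hj] at hstab
  have hg3 : 1 ≤ j → Nat.card (Sub.Cs K B) ∣ 3 * (p ^ j - 1) := fun h => hj ▸ card_Cs_dvd_three hF K B (by
    rw [hj]; exact Nat.one_lt_pow (by omega) hpp.one_lt)
  obtain ⟨hp2, hf3, hi', hj', hg⟩ := transvection_arith (g := Nat.card (Sub.Cs K B)) hpp hi1 hif hjf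
    (by rw [← hqf]; exact hg1) (by rw [← hqf]; exact hg2) hg3 (by rw [← hqf]; exact hstab)
  have hq8 : q = 8 := by rw [hqf, hp2, hf3]; norm_num
  -- eight elements with two transvections
  obtain ⟨ν, t, hν, hMc⟩ := hcount hq8
  have hSt : Nat.card (Sub.Stab K B) = 72 := by rw [Sub.card_Stab, Sub.card_Qs K B hF, hi, hj, hg, hp2, hi', hj']; norm_num
  set x : Pt := pt B.e (e_ne B) B.he
  have : Finite Pt := by
    refine Nat.finite_of_card_ne_zero ?_
    rw [Group.card_isoPt hF]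
    exact Nat.succ_ne_zero _
  have hstabx : MulAction.stabilizer K x = (Sub.Stab K B).subgroupOf K := by
    ext k
    rw [MulAction.mem_stabilizer_iff, Subgroup.mem_subgroupOf, Sub.Stab, Subgroup.mem_inf,
      Group.mem_fixLine_iff (e_ne B) B.he]
    exact ⟨fun h => ⟨k.2, h⟩, fun h => h.2⟩
  have hOI : Nat.card K = Nat.card (MulAction.orbit K x) * 72 := by
    have hle : Sub.Stab K B ≤ K := inf_le_left
    rw [← hSt, ← Nat.card_congr (Subgroup.subgroupOfEquivOfLe hle).toEquiv, ← hstabx, ← Nat.card_prod]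
    exact (Nat.card_congr (MulAction.orbitProdStabilizerEquivGroup K x)).symm
  have hO513 : Nat.card (MulAction.orbit K x) ≤ 513 := by
    have := Nat.card_le_card_of_injective (Subtype.val : MulAction.orbit K x → Pt) Subtype.val_injective
    rw [Group.card_isoPt hF] at this
    refine this.trans (le_of_eq ?_)
    norm_num [hq8]
  have hOodd : Odd (Nat.card (MulAction.orbit K x)) := by
    let U : Subgroup K := Subgroup.zpowers ⟨u, hu⟩
    have hUp : IsPGroup p U := by
      have h2 : IsPGroup p ↥(K ⊓ Group.Zg F q B.e) := IsPGroup.of_card hi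
      intro a
      obtain ⟨m, hm⟩ := Subgroup.mem_zpowers_iff.1 a.2
      obtain ⟨k, hk⟩ := h2 (⟨u, hu, huZ⟩ ^ m)
      refine ⟨k, Subtype.ext (Subtype.ext ?_)⟩
      have := congrArg Subtype.val hk
      simp only [SubmonoidClass.coe_pow, Subgroup.coe_zpow, OneMemClass.coe_one] at this ⊢
      rw [← hm]
      simpa using this
    have h1 := hUp.card_modEq_card_fixedPoints (MulAction.orbit K x)
    have h2 : Nat.card (MulAction.fixedPoints U (MulAction.orbit K x)) = 1 := by
      refine Nat.card_eq_one_iff_unique.2 ⟨⟨fun a b => ?_⟩, ⟨⟨⟨x, MulAction.mem_orbit_self x⟩, ?_⟩⟩⟩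
      · have key : ∀ y : MulAction.fixedPoints U (MulAction.orbit K x), (y.1.1 : Pt) = x := by
          intro y
          have h := y.2 ⟨⟨u, hu⟩, Subgroup.mem_zpowers _⟩
          exact (Group.fixes_unique (p := p) hF B (Group.Zg_le_Ue _ huZ) hu1 _).1 (congrArg Subtype.val h)
        exact Subtype.ext (Subtype.ext ((key a).trans (key b).symm))
      · rintro ⟨⟨a, ha⟩, hm⟩
        obtain ⟨m, hm'⟩ := Subgroup.mem_zpowers_iff.1 hm
        refine Subtype.ext ?_
        show a • x = x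
        refine (Group.mem_fixLine_iff (e_ne B) B.he).1 (Group.Ue_le_fixLine _ (Group.Zg_le_Ue _ ?_))
        have e : (a : SU3) = u ^ m := by simpa using (congrArg Subtype.val hm').symm
        rw [e]
        exact zpow_mem huZ m
    rw [h2, hp2] at h1
    exact Nat.odd_iff.2 h1
  exact eight_false (t := t) hOodd hO513 hν hOI (by rw [hK, card_comap hM, hMc])
    (by
      have h := Subgroup.card_subgroup_dvd_card K
      rw [Group.card_SU hF] at h
      refine h.trans (dvd_of_eq ?_)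
      rw [hq8])

end Cfsg.Agent.Forms.Max.SU3.Singer
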