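import Mathlib

/-!
# Products of an irreducible cyclic group with pseudo-reflections

An element is called special when it acts as a scalar on a plane.  Two special elements have a common eigenvector, so a
subgroup whose elements without eigenvector are scalar meets a set of special elements in few products.
-/

set_option autoImplicit false
set_option linter.unusedSectionVars false

namespace Cfsg.Agent.Forms.Max.SU3.Singer

open Matrix

variable {F : Type*} [Field F]

local notation "Vec" => (Fin 3 → F)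
local notation "Mat" => Matrix (Fin 3) (Fin 3) F
local notation "GL3" => GL (Fin 3) F

/-- scalar on a plane -/
def Special (s : GL (Fin 3) F) : Prop :=
  ∃ (a : F) (φ : Fin 3 → F), a ≠ 0 ∧
    ∀ x, φ ⬝ᵥ x = 0 → (s : Matrix (Fin 3) (Fin 3) F) *ᵥ x = a • x

theorem exists_common {φ ψ : Vec} : ∃ x : Vec, x ≠ 0 ∧ φ ⬝ᵥ x = 0 ∧ ψ ⬝ᵥ x = 0 := by
  let L : Vec →ₗ[F] (Fin 2 → F) :=
    { toFun := fun x => ![φ ⬝ᵥ x, ψ ⬝ᵥ x]
      map_add' := fun x y => by
        funext i; fin_cases i <;> simp [dotProduct_add]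
      map_smul' := fun c x => by
        funext i; fin_cases i <;> simp [dotProduct_smul] }
  have hker : LinearMap.ker L ≠ ⊥ := by
    intro h
    have h1 := LinearMap.finrank_range_add_finrank_ker L
    have h2 := Submodule.finrank_le (LinearMap.range L)
    rw [h, finrank_bot, Module.finrank_fintype_fun_eq_card, Fintype.card_fin] at h1
    rw [Module.finrank_fintype_fun_eq_card, Fintype.card_fin] at h2
    omega
  obtain ⟨x, hx, hx0⟩ := Submodule.exists_mem_ne_zero_of_ne_bot hker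
  rw [LinearMap.mem_ker] at hx
  exact ⟨x, hx0, congrFun hx 0, congrFun hx 1⟩

theorem eig_of_special {s s' : GL3} (hs : Special s) (hs' : Special s') :
    ∃ (x : Vec) (c : F), x ≠ 0 ∧ ((s' * s⁻¹ : GL3) : Mat) *ᵥ x = c • x := by
  obtain ⟨a, φ, ha, hφ⟩ := hs
  obtain ⟨a', φ', -, hφ'⟩ := hs'
  obtain ⟨x, hx, h1, h2⟩ := exists_common (φ := φ) (ψ := φ')
  refine ⟨x, a⁻¹ * a', hx, ?_⟩
  have h := congrArg (fun y => ((s⁻¹ : GL3) : Mat) *ᵥ y) (hφ x h1)
  simp only [Matrix.mulVec_mulVec, ← Units.val_mul, inv_mul_cancel, Units.val_one,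
    Matrix.one_mulVec, Matrix.mulVec_smul] at h
  rw [Units.val_mul, ← Matrix.mulVec_mulVec, show ((s⁻¹ : GL3) : Mat) *ᵥ x = a⁻¹ • x by
    conv_rhs => rw [h, smul_smul, inv_mul_cancel₀ ha, one_smul], Matrix.mulVec_smul, hφ' x h2,
    smul_smul]

/-- `|C| |S| ≤ N |M|`, where `N` bounds the scalars between two members of `S` -/
theorem card_mul_le [Finite F] {M C : Subgroup GL3} (hCM : C ≤ M)
    (hC : ∀ c ∈ C, ∀ (x : Vec) (a : F), x ≠ 0 → (c : Mat) *ᵥ x = a • x → (c : Mat) = a • 1)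
    {S : Set GL3} (hSM : S ⊆ M) (hS : ∀ s ∈ S, Special s) (L : Set GL3)
    (hL : ∀ s ∈ S, ∀ s' ∈ S, ∀ a : F, ((s' * s⁻¹ : GL3) : Mat) = a • 1 → s' * s⁻¹ ∈ L) :
    Nat.card C * Nat.card S ≤ Nat.card L * Nat.card M := by
  classical
  have := Fintype.ofFinite F
  let f : C × S → M := fun x => ⟨(x.1 : GL3) * (x.2 : GL3), mul_mem (hCM x.1.2) (hSM x.2.2)⟩
  rw [← Nat.card_prod]
  rcases isEmpty_or_nonempty (C × S) with h0 | h0
  · simp [Nat.card_of_isEmpty]
  calc Nat.card (C × S) ≤ Nat.card (M × L) := by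
        refine Nat.card_le_card_of_injective (fun x : C × S =>
          (f x, (⟨(x.2 : GL3) * ((Function.invFun f (f x)).2 : GL3)⁻¹, ?_⟩ : L))) ?_
        · have hf : f (Function.invFun f (f x)) = f x := Function.invFun_eq ⟨x, rfl⟩
          set y := Function.invFun f (f x)
          have e : (y.1 : GL3) * (y.2 : GL3) = (x.1 : GL3) * (x.2 : GL3) := congrArg Subtype.val hf
          have e' : (x.2 : GL3) * (y.2 : GL3)⁻¹ = (x.1 : GL3)⁻¹ * (y.1 : GL3) := by
            rw [eq_inv_mul_iff_mul_eq, ← mul_assoc, ← e, mul_inv_cancel_right]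
          obtain ⟨v, c, hv, hvc⟩ := eig_of_special (hS _ y.2.2) (hS _ x.2.2)
          rw [e'] at hvc
          exact hL _ y.2.2 _ x.2.2 c (by
            rw [e']; exact hC _ (mul_mem (inv_mem x.1.2) y.1.2) v c hv hvc)
        · intro x y h
          obtain ⟨h1, h2⟩ := Prod.ext_iff.1 h
          have h2' := congrArg Subtype.val h2
          simp only at h1 h2'
          rw [h1] at h2'
          have hx2 : (x.2 : GL3) = y.2 := mul_right_cancel h2'
          have hx1 : (x.1 : GL3) * x.2 = y.1 * y.2 := congrArg Subtype.val h1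
          rw [hx2] at hx1
          exact Prod.ext (Subtype.ext (mul_right_cancel hx1)) (Subtype.ext hx2)
    _ = Nat.card L * Nat.card M := by rw [Nat.card_prod, mul_comm]

/-- the pairs of a member and an element of `T` give few conjugates twice -/
theorem card_conj_le {G : Type*} [Group G] [Finite G] (M : Subgroup G) (D : Subgroup G) {T : Set G} (hT : T ⊆ M)
    (hD : ∀ g ∈ M, ∀ t ∈ T, g * t * g⁻¹ ∈ T → g ∈ D) :
    Nat.card M * Nat.card T ≤
      Nat.card {s : G // ∃ g ∈ M, ∃ t ∈ T, g * t * g⁻¹ = s} * Nat.card D := by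
  classical
  let f : M × T → {s : G // ∃ g ∈ M, ∃ t ∈ T, g * t * g⁻¹ = s} := fun x =>
    ⟨(x.1 : G) * x.2 * (x.1 : G)⁻¹, x.1, x.1.2, x.2, x.2.2, rfl⟩
  rw [← Nat.card_prod, ← Nat.card_prod]
  rcases isEmpty_or_nonempty (M × T) with h0 | h0
  · simp [Nat.card_of_isEmpty]
  refine Nat.card_le_card_of_injective (fun x : M × T =>
    (f x, (⟨((Function.invFun f (f x)).1 : G)⁻¹ * x.1, ?_⟩ : D))) ?_
  · have hf : f (Function.invFun f (f x)) = f x := Function.invFun_eq ⟨x, rfl⟩
    set y := Function.invFun f (f x)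
    have e : (y.1 : G) * y.2 * (y.1 : G)⁻¹ = x.1 * x.2 * (x.1 : G)⁻¹ := congrArg Subtype.val hf
    refine hD _ (mul_mem (inv_mem y.1.2) x.1.2) x.2 x.2.2 ?_
    have e2 : (y.1 : G)⁻¹ * x.1 * x.2 * ((y.1 : G)⁻¹ * x.1)⁻¹ = y.2 := by
      calc _ = (y.1 : G)⁻¹ * ((x.1 : G) * x.2 * (x.1 : G)⁻¹) * y.1 := by group
        _ = _ := by rw [← e]; group
    rw [e2]
    exact y.2.2
  · intro x y h
    obtain ⟨h1, h2⟩ := Prod.ext_iff.1 h
    have h2' := congrArg Subtype.val h2
    simp only at h1 h2'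
    rw [h1] at h2'
    have hx1 : (x.1 : G) = y.1 := mul_left_cancel h2'
    have hx2 : (x.1 : G) * x.2 * (x.1 : G)⁻¹ = y.1 * y.2 * (y.1 : G)⁻¹ := congrArg Subtype.val h1
    rw [hx1] at hx2
    exact Prod.ext (Subtype.ext hx1) (Subtype.ext (mul_left_cancel (mul_right_cancel hx2)))

end Cfsg.Agent.Forms.Max.SU3.Singer
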