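import Cfsg.Agent.Lib.Forms.Max.SU3.Plane
import Cfsg.Agent.Lib.Forms.Max.SU3.Singer.Inject
import Cfsg.Agent.Lib.Forms.DicksonCount
import Cfsg.Agent.Lib.Forms.DicksonAction

/-!
# Homologies in an overgroup of an irreducible cyclic group

A homology in the overgroup makes the stabiliser of its centre large; the action on the axis then contains an element
of order `p`, so a transvection, unless `q` is `7` or `11`.
-/

set_option autoImplicit false
set_option linter.unusedSectionVars false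

namespace Cfsg.Agent.Forms.Max.SU3.Singer.Homology

open Matrix Cfsg.Agent.Classical Cfsg.Agent.Classical.Unitary
open Cfsg.Agent.SimpleFacts.MinIndexPSUThree Cfsg.Agent.SimpleFacts.MinIndexPSUThree.Borel
open Cfsg.Agent.SimpleFacts.MinIndexPSUThree.Plane
open scoped MatrixGroups

universe u

variable {F : Type u} [Field F] [Fintype F] {q : ℕ}

local notation "Vec" => (Fin 3 → F)
local notation "Mat" => Matrix (Fin 3) (Fin 3) F
local notation "H" => Cfsg.hermForm 3 F q
local notation "GL3" => GL (Fin 3) F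
local notation "SUn" => (Cfsg.GU 3 F q ⊓ Cfsg.Geo.specialLinear (Fin 3) F)
local notation "PG" => Matrix.ProjectiveSpecialLinearGroup (Fin 2) F

variable (hF : Fintype.card F = q ^ 2) (B : Frame F q) (K : Subgroup (Cfsg.SU 3 F q))
include hF

/-- the elements of the stabiliser that are scalar on the plane -/
noncomputable def kern : Subgroup (Cfsg.SU 3 F q) :=
  ((Plane.planeHom hF B).comp (Subgroup.inclusion (inf_le_right : K ⊓ fixLine F q B.w ≤ fixLine F q B.w))).ker.map
    (K ⊓ fixLine F q B.w).subtype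

/-- the image of the stabiliser on the plane -/
noncomputable def img : Subgroup PG :=
  ((Plane.planeHom hF B).comp (Subgroup.inclusion (inf_le_right : K ⊓ fixLine F q B.w ≤ fixLine F q B.w))).range

theorem mem_kern {k : Cfsg.SU 3 F q} :
    k ∈ kern hF B K ↔ k ∈ K ⊓ fixLine F q B.w ∧ Scalar B k := by
  constructor
  · rintro ⟨x, hx, rfl⟩
    exact ⟨x.2, (Plane.planeHom_eq_one hF B ⟨x, x.2.2⟩).1 hx⟩
  · rintro ⟨hk, hs⟩
    exact ⟨⟨k, hk⟩, (Plane.planeHom_eq_one hF B ⟨k, hk.2⟩).2 hs, rfl⟩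

theorem card_stab :
    Nat.card ↥(K ⊓ fixLine F q B.w) = Nat.card (kern hF B K) * Nat.card (img hF B K) := by
  set f := (Plane.planeHom hF B).comp
    (Subgroup.inclusion (inf_le_right : K ⊓ fixLine F q B.w ≤ fixLine F q B.w)) with hf
  rw [kern, img, ← hf, Subgroup.card_map_of_injective (Subgroup.subtype_injective _), ← Subgroup.index_ker,
    Subgroup.card_mul_index]

/-- the multiplier on the plane -/
def mult (B : Frame F q) (k : Cfsg.SU 3 F q) : F := H (mat k *ᵥ B.e) B.f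

theorem kern_spec {k : Cfsg.SU 3 F q} (hk : k ∈ kern hF B K) :
    mat k *ᵥ B.e = mult B k • B.e ∧ mat k *ᵥ B.f = mult B k • B.f ∧
      mat k *ᵥ B.w = (mult B k ^ q / mult B k) • B.w ∧ mult B k ^ (q + 1) = 1 ∧ mult B k ≠ 0 := by
  obtain ⟨⟨-, hfix⟩, r, he, hf⟩ := (mem_kern hF B K).1 hk
  have hr : mult B k = r := by rw [mult, he, H_smul_left, B.hef, mul_one]
  rw [hr]
  obtain ⟨hr0, hw, -⟩ := triangular hF B he
  obtain ⟨b, -, hbw⟩ := hfix
  have h0 : H (mat k *ᵥ B.w) B.f = 0 := by rw [hbw, H_smul_left, B.hwf, mul_zero]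
  rw [h0, zero_smul, add_zero] at hw
  refine ⟨he, hf, hw, ?_, hr0⟩
  have h1 := SU_H k B.e B.f
  rw [he, hf, H_smul_left, H_smul_right, B.hef, mul_one] at h1
  rw [pow_succ']
  exact h1

theorem kern_mulVec {k : Cfsg.SU 3 F q} (hk : k ∈ kern hF B K) {x : Vec} (hx : H x B.w = 0) :
    mat k *ᵥ x = mult B k • x := by
  obtain ⟨he, hf, -, -, -⟩ := kern_spec hF B K hk
  rw [plane_decomp hF B hx, Matrix.mulVec_add, Matrix.mulVec_smul, Matrix.mulVec_smul, he, hf]
  module

theorem mult_mul {k l : Cfsg.SU 3 F q} (hk : k ∈ kern hF B K) (hl : l ∈ kern hF B K) :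
    mult B (k * l) = mult B k * mult B l := by
  rw [mult, mul_mulVec, (kern_spec hF B K hl).1, Matrix.mulVec_smul, (kern_spec hF B K hk).1, H_smul_left,
    H_smul_left, B.hef, mult]
  ring

/-- the elements of the kernel with multiplier a cube root of unity -/
noncomputable def zker : Subgroup (Cfsg.SU 3 F q) where
  carrier := {k | k ∈ kern hF B K ∧ mult B k ^ 3 = 1}
  one_mem' := ⟨one_mem _, by rw [mult, mat_one, one_mulVec, B.hef, one_pow]⟩
  mul_mem' := fun hk hl => ⟨mul_mem hk.1 hl.1, by rw [mult_mul hF B K hk.1 hl.1, mul_pow, hk.2, hl.2, one_mul]⟩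
  inv_mem' := fun {k} hk => ⟨inv_mem hk.1, by
    have h1 : mult B (k * k⁻¹) ^ 3 = 1 := by rw [mul_inv_cancel, mult, mat_one, one_mulVec, B.hef, one_pow]
    rwa [mult_mul hF B K hk.1 (inv_mem hk.1), mul_pow, hk.2, one_mul] at h1⟩

theorem mem_zker {k : Cfsg.SU 3 F q} : k ∈ zker hF B K ↔ k ∈ kern hF B K ∧ mult B k ^ 3 = 1 := Iff.rfl

theorem zker_le : zker hF B K ≤ kern hF B K := fun _ h => h.1

theorem mult_inj {k l : Cfsg.SU 3 F q} (hk : k ∈ kern hF B K) (hl : l ∈ kern hF B K)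
    (h : mult B k = mult B l) : k = l := by
  obtain ⟨ke, kf, kw, -, -⟩ := kern_spec hF B K hk
  obtain ⟨le, lf, lw, -, -⟩ := kern_spec hF B K hl
  exact Borel.ext hF B (by rw [ke, le, h]) (by rw [kf, lf, h]) (by rw [kw, lw, h])

/-- the multiplier is one to one -/
noncomputable def multHom : kern hF B K →* Fˣ where
  toFun k := Units.mk0 (mult B (k : Cfsg.SU 3 F q)) (kern_spec hF B K k.2).2.2.2.2
  map_one' := Units.ext (by simp [mult, mat_one, B.hef])
  map_mul' k l := Units.ext (by simpa using mult_mul hF B K k.2 l.2)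

theorem multHom_injective : Function.Injective (multHom hF B K) := fun k l h =>
  Subtype.ext (mult_inj hF B K k.2 l.2 (congrArg Units.val h))

theorem card_kern_dvd : Nat.card (kern hF B K) ∣ q + 1 := by
  have : IsCyclic (kern hF B K) := isCyclic_of_injective (multHom hF B K) (multHom_injective hF B K)
  rw [← IsCyclic.exponent_eq_card]
  refine Monoid.exponent_dvd_of_forall_pow_eq_one fun k => multHom_injective hF B K ?_
  rw [map_pow, map_one]
  exact Units.ext (by rw [Units.val_pow_eq_pow_val, Units.val_one]; exact (kern_spec hF B K k.2).2.2.2.1)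

theorem card_zker : Nat.card (zker hF B K) = Nat.gcd (Nat.card (kern hF B K)) 3 := by
  have : IsCyclic (kern hF B K) := isCyclic_of_injective (multHom hF B K) (multHom_injective hF B K)
  letI : CommGroup (kern hF B K) := IsCyclic.commGroup
  rw [← IsCyclic.card_powMonoidHom_ker (kern hF B K) 3]
  refine Nat.card_congr
    { toFun := fun z => ⟨⟨z.1, z.2.1⟩, ?_⟩
      invFun := fun z => ⟨z.1.1, z.1.2, ?_⟩
      left_inv := fun z => rfl
      right_inv := fun z => rfl }
  · rw [MonoidHom.mem_ker, powMonoidHom_apply]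
    refine multHom_injective hF B K (Units.ext ?_)
    rw [map_pow, map_one, Units.val_pow_eq_pow_val, Units.val_one]
    exact z.2.2
  · have h := congrArg (fun x => ((multHom hF B K x : Fˣ) : F)) (MonoidHom.mem_ker.1 z.2)
    simp only [powMonoidHom_apply, map_pow, map_one, Units.val_pow_eq_pow_val, Units.val_one] at h
    exact h

theorem card_zker_lt (h : ∃ k ∈ K ⊓ fixLine F q B.w, Scalar B k ∧ ∀ a : F, mat k ≠ a • 1) :
    Nat.card (zker hF B K) < Nat.card (kern hF B K) := by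
  obtain ⟨k, hk, hs, hns⟩ := h
  have hkk : k ∈ kern hF B K := (mem_kern hF B K).2 ⟨hk, hs⟩
  refine lt_of_le_of_ne (Nat.card_mono (Set.toFinite _) (zker_le hF B K)) fun heq => ?_
  have he : zker hF B K = kern hF B K := Subgroup.eq_of_le_of_card_ge (zker_le hF B K) heq.ge
  obtain ⟨-, h3⟩ := (mem_zker hF B K).1 (he ▸ hkk)
  obtain ⟨ke, kf, kw, hn, h0⟩ := kern_spec hF B K hkk
  refine hns (mult B k) (Matrix.toLin'.injective (LinearMap.ext fun x => ?_))
  rw [Matrix.toLin'_apply, Matrix.toLin'_apply, Matrix.smul_mulVec, Matrix.one_mulVec, decomp hF B x,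
    Matrix.mulVec_add, Matrix.mulVec_add, Matrix.mulVec_smul, Matrix.mulVec_smul, Matrix.mulVec_smul, ke, kf, kw,
    show mult B k ^ q / mult B k = mult B k by
      field_simp
      refine mul_right_cancel₀ h0 ?_
      rw [← pow_succ, hn, ← pow_succ, h3]]
  module

/-- the stabiliser of the centre of a homology is large -/
theorem image_ge {M C : Subgroup GL3} (hM : M ≤ SUn) (hCM : C ≤ M)
    (hC : ∀ c ∈ C, ∀ (x : Vec) (a : F), x ≠ 0 → (c : Mat) *ᵥ x = a • x → (c : Mat) = a • 1) :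
    Nat.card C * (Nat.card (kern hF B (M.comap (emb F q))) - Nat.card (zker hF B (M.comap (emb F q)))) ≤
      Nat.card (zker hF B (M.comap (emb F q))) * Nat.card ↥(M.comap (emb F q) ⊓ fixLine F q B.w) := by
  classical
  set K := M.comap (emb F q) with hK
  set S0 := kern hF B K
  set Z := zker hF B K
  set T : Set GL3 := emb F q '' ((S0 : Set (Cfsg.SU 3 F q)) \ (Z : Set (Cfsg.SU 3 F q))) with hT
  have hTM : T ⊆ M := by
    rintro _ ⟨k, ⟨hk, -⟩, rfl⟩
    exact ((mem_kern hF B K).1 hk).1.1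
  have hTcard : Nat.card T = Nat.card S0 - Nat.card Z := by
    rw [hT, Nat.card_image_of_injective emb_injective, Nat.card_coe_set_eq,
      Set.ncard_sdiff (zker_le hF B K) (Set.toFinite _), ← Nat.card_coe_set_eq, ← Nat.card_coe_set_eq]
    rfl
  -- a homology determines its centre
  have hD : ∀ g ∈ M, ∀ t ∈ T, g * t * g⁻¹ ∈ T → g ∈ (K ⊓ fixLine F q B.w).map (emb F q) := by
    rintro g hg _ ⟨t, ⟨ht, htz⟩, rfl⟩ ⟨t', ⟨ht', htz'⟩, he⟩
    obtain ⟨k, rfl⟩ := (range_emb (F := F) (q := q)).ge (hM hg)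
    refine ⟨k, ⟨hg, ?_⟩, rfl⟩
    rw [← map_inv, ← map_mul, ← map_mul] at he
    have he' : t' * k = k * t := by rw [emb_injective he]; group
    obtain ⟨-, -, tw, tn, t0⟩ := kern_spec hF B K ht
    obtain ⟨-, -, tw', tn', t0'⟩ := kern_spec hF B K ht'
    set r := mult B t with hr
    set r' := mult B t' with hr'
    set b := r ^ q / r with hb
    set b' := r' ^ q / r' with hb'
    have hbr : ∀ s : F, s ≠ 0 → s ^ (q + 1) = 1 → s ^ q / s = s → s ^ 3 = 1 := fun s hs hn he => by
      rw [div_eq_iff hs] at he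
      calc s ^ 3 = s * s * s := by ring
        _ = s ^ q * s := by rw [he]
        _ = 1 := by rw [← pow_succ, hn]
    have hrb : b ≠ r := fun e => htz ((mem_zker hF B K).2 ⟨ht, hbr r t0 tn e⟩)
    have hrb' : b' ≠ r' := fun e => htz' ((mem_zker hF B K).2 ⟨ht', hbr r' t0' tn' e⟩)
    -- the image of the centre
    set v := mat k *ᵥ B.w with hv
    have hv0 : v ≠ 0 := mat_mulVec_ne_zero k (w_ne B)
    have hv' : mat t' *ᵥ v = b • v := by
      rw [hv, ← mul_mulVec, he', mul_mulVec, tw, Matrix.mulVec_smul]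
    set α := H v B.w with hα
    set x := v - α • B.w with hx
    have hxw : H x B.w = 0 := by rw [hx, H_sub_left, H_smul_left, B.hww, mul_one, hα, sub_self]
    have hvd : v = α • B.w + x := by rw [hx]; abel
    have e1 : (α * b') • B.w + r' • x = (b * α) • B.w + b • x := by
      have := hv'
      rw [hvd, Matrix.mulVec_add, Matrix.mulVec_smul, tw', kern_mulVec hF B K ht' hxw, smul_add, smul_smul,
        smul_smul] at this
      exact this
    have hc := congrArg (fun y => H y B.w) e1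
    simp only [H_add_left, H_smul_left, hxw, B.hww, mul_one, mul_zero, add_zero] at hc
    by_cases hx0 : x = 0
    · exact ⟨α, fun h0 => hv0 (by rw [hvd, hx0, h0, zero_smul, add_zero]), by
        rw [← hv, hvd, hx0, add_zero]⟩
    exfalso
    have hbr' : r' = b := by
      have h1 : (α * b') • B.w + r' • x = (α * b') • B.w + b • x := by rw [e1, hc]
      exact smul_left_injective F hx0 (add_left_cancel h1)
    have hα0 : α = 0 := by
      by_contra hne
      exact hrb' (mul_left_cancel₀ hne (hc.trans (by rw [hbr', mul_comm])))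
    -- the image of the plane meets the plane
    obtain ⟨y, hy0, hy1, hy2⟩ : ∃ y : Vec, y ≠ 0 ∧ H y B.w = 0 ∧ H (mat k *ᵥ y) B.w = 0 := by
      set a1 := H (mat k *ᵥ B.e) B.w with ha1
      set a2 := H (mat k *ᵥ B.f) B.w with ha2
      by_cases h0 : a1 = 0
      · exact ⟨B.e, e_ne B, hew hF B, h0⟩
      · refine ⟨a2 • B.e - a1 • B.f, fun h => h0 ?_, by
          rw [H_sub_left, H_smul_left, H_smul_left, hew hF B, hfw hF B]; ring, by
          rw [Matrix.mulVec_sub, Matrix.mulVec_smul, Matrix.mulVec_smul, H_sub_left, H_smul_left, H_smul_left,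
            ← ha1, ← ha2]; ring⟩
        have := congrArg (fun z => H z B.e) h
        simpa [H_sub_left, H_smul_left, H_zero_left, B.he, hfe hF B] using this
    have h2 : mat (t' * k) *ᵥ y = r' • (mat k *ᵥ y) := by rw [mul_mulVec, kern_mulVec hF B K ht' hy2]
    rw [he', mul_mulVec, kern_mulVec hF B K ht hy1, Matrix.mulVec_smul] at h2
    have h3 := smul_left_injective F (mat_mulVec_ne_zero k hy0) h2
    exact hrb (hbr'.symm.trans h3.symm)
  have h1 := card_conj_le M ((K ⊓ fixLine F q B.w).map (emb F q)) hTM hD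
  rw [Subgroup.card_map_of_injective emb_injective, hTcard] at h1
  set S : Set GL3 := {s | ∃ g ∈ M, ∃ t ∈ T, g * t * g⁻¹ = s}
  have hSM : S ⊆ M := by rintro _ ⟨g, hg, t, ht, rfl⟩; exact mul_mem (mul_mem hg (hTM ht)) (inv_mem hg)
  have hspec : ∀ s ∈ S, Special s := by
    rintro _ ⟨g, hg, _, ⟨t, ⟨ht, -⟩, rfl⟩, rfl⟩
    have hh := (Unitary.mem_SUn.1 (hM hg)).1
    obtain ⟨φ, hφ⟩ : ∃ φ : Vec, ∀ x, φ ⬝ᵥ x = H x ((g : Mat) *ᵥ B.w) :=
      ⟨_, (Max.exists_row (hlin q ((g : Mat) *ᵥ B.w))).choose_spec⟩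
    refine ⟨mult B t, φ, (kern_spec hF B K ht).2.2.2.2, fun x hx => ?_⟩
    set y := ((g⁻¹ : GL3) : Mat) *ᵥ x with hy
    have hxy : (g : Mat) *ᵥ y = x := by
      rw [hy, Matrix.mulVec_mulVec, ← Units.val_mul, mul_inv_cancel, Units.val_one, Matrix.one_mulVec]
    have hyw : H y B.w = 0 := by
      rw [hφ, ← hxy, hh] at hx
      exact hx
    rw [Units.val_mul, Units.val_mul, ← Matrix.mulVec_mulVec, ← hy, ← Matrix.mulVec_mulVec, coe_emb,
      kern_mulVec hF B K ht hyw, Matrix.mulVec_smul, hxy]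
  have h2 : Nat.card C * Nat.card S ≤ Nat.card Z * Nat.card M := by
    have := card_mul_le hCM hC hSM hspec (emb F q '' (Z : Set (Cfsg.SU 3 F q))) (fun s hs s' hs' a ha => by
      have hmem : s' * s⁻¹ ∈ M := mul_mem (hSM hs') (inv_mem (hSM hs))
      obtain ⟨k, hk⟩ := (range_emb (F := F) (q := q)).ge (hM hmem)
      refine ⟨k, ?_, hk⟩
      have hka : mat k = a • (1 : Mat) := by rw [← coe_emb, hk, ha]
      have hkx : ∀ x : Vec, mat k *ᵥ x = a • x := fun x => by rw [hka, Matrix.smul_mulVec, Matrix.one_mulVec]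
      have hkK : k ∈ K ⊓ fixLine F q B.w := ⟨by show emb F q k ∈ M; rw [hk]; exact hmem,
        a, fun h0 => mat_mulVec_ne_zero k (w_ne B) (by rw [hkx, h0, zero_smul]), hkx _⟩
      refine (mem_zker hF B K).2 ⟨(mem_kern hF B K).2 ⟨hkK, a, hkx _, hkx _⟩, ?_⟩
      have hd : (mat k).det = 1 := k.1.2
      rw [hka, Matrix.det_smul, Matrix.det_one, mul_one, Fintype.card_fin] at hd
      rw [mult, hkx, H_smul_left, B.hef, mul_one]
      exact hd)
    rwa [Nat.card_image_of_injective emb_injective] at this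
  have hpos : 0 < Nat.card M := Nat.card_pos
  refine Nat.le_of_mul_le_mul_left ?_ hpos
  calc Nat.card M * (Nat.card C * (Nat.card S0 - Nat.card Z))
      = Nat.card C * (Nat.card M * (Nat.card S0 - Nat.card Z)) := by ring
    _ ≤ Nat.card C * (Nat.card S * Nat.card ↥(K ⊓ fixLine F q B.w)) := Nat.mul_le_mul_left _ h1
    _ = Nat.card C * Nat.card S * Nat.card ↥(K ⊓ fixLine F q B.w) := by ring
    _ ≤ Nat.card Z * Nat.card M * Nat.card ↥(K ⊓ fixLine F q B.w) := Nat.mul_le_mul_right _ h2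
    _ = _ := by ring

/-- powers of a matrix of determinant one through an eigenvalue -/
theorem sl_pow (X : SL(2, F)) {y : F} (hy : y * y - (X : Matrix (Fin 2) (Fin 2) F).trace * y + 1 = 0) (n : ℕ) :
    (y - y⁻¹) • ((X : Matrix (Fin 2) (Fin 2) F) ^ (n + 1)) =
      (y ^ (n + 1) - y⁻¹ ^ (n + 1)) • (X : Matrix (Fin 2) (Fin 2) F) - (y ^ n - y⁻¹ ^ n) • 1 := by
  have hy0 : y ≠ 0 := fun h => by rw [h] at hy; simp at hy
  have ht : (X : Matrix (Fin 2) (Fin 2) F).trace = y + y⁻¹ := by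
    field_simp
    linear_combination -hy
  induction n with
  | zero => simp
  | succ n ih =>
    rw [pow_succ, ← Matrix.smul_mul, ih, sub_mul, Matrix.smul_mul, Matrix.smul_mul, one_mul,
      DicksonAction.sq_eq_trace, ht, smul_sub, smul_smul, sub_sub, add_comm, ← sub_sub, sub_eq_add_neg,
      sub_eq_add_neg, add_right_comm, ← sub_eq_add_neg, ← sub_eq_add_neg, ← sub_smul]
    congr 2
    have h : y * y⁻¹ = 1 := mul_inv_cancel₀ hy0
    linear_combination (y ^ n - y⁻¹ ^ n) * h

/-- the orders of semisimple elements of the image -/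
theorem pow_eq_one (p : ℕ) [Fact p.Prime] [CharP F p] (hodd : Odd q) (k : fixLine F q B.w)
    (hp : orderOf (Plane.planeHom hF B k) ≠ p) :
    Plane.planeHom hF B k ^ (q - 1) = 1 ∨ Plane.planeHom hF B k ^ (q + 1) = 1 := by
  by_cases h1 : Plane.planeHom hF B k = 1
  · exact Or.inl (by rw [h1, one_pow])
  obtain ⟨he, hf⟩ := coeffs hF B k
  have q1 := SU_H (k : Cfsg.SU 3 F q) B.e B.f
  have q2 := SU_H (k : Cfsg.SU 3 F q) B.e B.e
  have q3 := SU_H (k : Cfsg.SU 3 F q) B.f B.f
  rw [he, hf, B.hef] at q1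
  rw [he, B.he] at q2
  rw [hf, B.hf] at q3
  simp [H_add_left, H_add_right hF, H_smul_left, H_smul_right, B.he, B.hf, B.hef, hfe hF B] at q1 q2 q3
  set a := H (mat (k : Cfsg.SU 3 F q) *ᵥ B.e) B.f with ha
  set c := H (mat (k : Cfsg.SU 3 F q) *ᵥ B.e) B.e with hc
  set b := H (mat (k : Cfsg.SU 3 F q) *ᵥ B.f) B.f with hb
  set d := H (mat (k : Cfsg.SU 3 F q) *ᵥ B.f) B.e with hd
  have r1 : a * d ^ q + c * b ^ q = 1 := by linear_combination q1
  have r2 : a * c ^ q + c * a ^ q = 0 := by linear_combination q2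
  have r3 : b * d ^ q + d * b ^ q = 0 := by linear_combination q3
  obtain ⟨hA, hD, hN⟩ := plane_rel hF (A := a) (B := b) (C := c) (D := d) r1 r2 r3
  obtain ⟨r, hr⟩ := exists_root hF r1 r2 r3
  set s := Plane.sc hF B k with hsdef
  have hs0 : s ≠ 0 := Plane.sc_ne_zero hF B k
  have hss : s * s = a * d - b * c := by
    rw [hsdef, Plane.sc_mul_self, Plane.pm, Matrix.det_fin_two_of]
  set X := Plane.sm hF B k with hXdef
  have hXpi : KleinPSL.pi F X = Plane.planeHom hF B k := rfl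
  have htr : (X : Matrix (Fin 2) (Fin 2) F).trace = (a + d) / s := by
    rw [hXdef, Plane.sm, Matrix.trace_smul, Plane.pm, Matrix.trace_fin_two_of, smul_eq_mul, ← hsdef,
      div_eq_inv_mul]
  set t := (X : Matrix (Fin 2) (Fin 2) F).trace with ht
  set y := r / s with hy'
  have hy : y * y - t * y + 1 = 0 := by
    rw [hy', htr]
    field_simp
    linear_combination hr + hss
  have hy0 : y ≠ 0 := fun h => by rw [h] at hy; simp at hy
  have hne : y - y⁻¹ ≠ 0 := fun h => by
    refine hp ?_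
    rw [← hXpi]
    refine (DicksonAction.orderOf_iff p X (hXpi ▸ h1)).2 ?_
    rw [← ht]
    have e : y * y = 1 := by
      rw [sub_eq_zero] at h
      nth_rw 2 [h]
      exact mul_inv_cancel₀ hy0
    have e2 : t * y = 2 := by linear_combination -hy + e
    calc t * t = t * y * (t * y) := by linear_combination -(t * t) * e
      _ = 4 := by rw [e2]; norm_num
  -- the square of the trace is fixed by the involution
  have htq : (t * t) ^ q = t * t := by
    rw [htr, div_mul_div_comm, hss, div_pow, mul_pow]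
    have hδ0 : a * d - b * c ≠ 0 := hss ▸ mul_ne_zero hs0 hs0
    have hT : (a + d) ^ q * (a * d - b * c) = a + d := by
      rw [HermStd.add_pow_q hF]; linear_combination hA + hD
    have hT' : (a + d) ^ q = (a + d) / (a * d - b * c) := by rw [eq_div_iff hδ0, hT]
    have hN' : (a * d - b * c) ^ q = (a * d - b * c)⁻¹ := by
      rw [eq_comm, inv_eq_of_mul_eq_one_left]
      rw [← pow_succ, hN]
    rw [hT', hN']
    field_simp
  set z := y * y with hz
  have hz0 : z ≠ 0 := mul_ne_zero hy0 hy0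
  have hu : z + z⁻¹ = t * t - 2 := by
    have e : t = y + y⁻¹ := by
      field_simp
      linear_combination -hy
    rw [e, hz, mul_inv]
    field_simp
    ring
  have hzq : z ^ q + (z ^ q)⁻¹ = z + z⁻¹ := by
    have e := congrArg (HermStd.qHom hF) hu
    rw [map_add, map_inv₀, map_sub, map_ofNat, HermStd.qHom_apply, HermStd.qHom_apply, htq, ← hu] at e
    exact e
  have hzq0 : z ^ q ≠ 0 := pow_ne_zero _ hz0
  have hsplit : (z ^ q - z) * (z ^ q * z - 1) = 0 := by
    field_simp at hzq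
    linear_combination hzq
  obtain ⟨N, hN2, hzN⟩ : ∃ N, (N = q - 1 ∨ N = q + 1) ∧ z ^ N = 1 := by
    have hq1 : 1 ≤ q := hodd.pos
    rcases mul_eq_zero.1 hsplit with h | h
    · refine ⟨q - 1, Or.inl rfl, mul_left_cancel₀ hz0 ?_⟩
      rw [mul_one, ← pow_succ', Nat.sub_add_cancel hq1]
      exact sub_eq_zero.1 h
    · exact ⟨q + 1, Or.inr rfl, by rw [pow_succ]; exact sub_eq_zero.1 h⟩
  have hkey : KleinPSL.pi F X ^ N = 1 := by
    rcases Nat.eq_zero_or_pos N with hN0 | hN0
    · rw [hN0, pow_zero]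
    obtain ⟨n, rfl⟩ : ∃ n, N = n + 1 := ⟨N - 1, by omega⟩
    have hε : y ^ (n + 1) * y ^ (n + 1) = 1 := by rw [← mul_pow, ← hz, hzN]
    have hinv : y⁻¹ ^ (n + 1) = y ^ (n + 1) := by rw [inv_pow, inv_eq_of_mul_eq_one_left hε]
    have hXn := sl_pow hF X hy n
    rw [hinv, sub_self, zero_smul, zero_sub] at hXn
    have e : y ^ n - y⁻¹ ^ n = (y⁻¹ - y) * y ^ (n + 1) := by
      have hn : y⁻¹ ^ n = y ^ (n + 2) := by
        calc y⁻¹ ^ n = y⁻¹ ^ (n + 1) * y := by rw [pow_succ, mul_assoc, inv_mul_cancel₀ hy0, mul_one]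
          _ = y ^ (n + 2) := by rw [hinv]; ring
      rw [hn, sub_mul, pow_succ' y n, ← mul_assoc, inv_mul_cancel₀ hy0, one_mul]
      ring
    rw [e, ← neg_smul, show -((y⁻¹ - y) * y ^ (n + 1)) = (y - y⁻¹) * y ^ (n + 1) by ring, ← smul_smul] at hXn
    have hXm := smul_right_injective (Matrix (Fin 2) (Fin 2) F) hne hXn
    rw [← map_pow, KleinPSL.pi_eq_one]
    rcases mul_self_eq_one_iff.1 hε with h | h
    · left
      exact Subtype.ext (by
        rw [Matrix.SpecialLinearGroup.coe_pow, hXm, h, one_smul, Matrix.SpecialLinearGroup.coe_one])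
    · right
      exact Subtype.ext (by
        rw [Matrix.SpecialLinearGroup.coe_pow, hXm, h, neg_one_smul, Matrix.SpecialLinearGroup.coe_neg,
          Matrix.SpecialLinearGroup.coe_one])
  rw [hXpi] at hkey
  rcases hN2 with rfl | rfl
  · exact Or.inl hkey
  · exact Or.inr hkey

/-- the image when the characteristic does not divide its order -/
theorem img_card (p : ℕ) [Fact p.Prime] [CharP F p] (hodd : Odd q) (hp : ¬ p ∣ Nat.card (img hF B K)) :
    (∃ a, (a ∣ q - 1 ∨ a ∣ q + 1) ∧ (Nat.card (img hF B K) = a ∨ Nat.card (img hF B K) = 2 * a)) ∨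
      Nat.card (img hF B K) = 12 ∨ Nat.card (img hF B K) = 24 ∨
      (Nat.card (img hF B K) = 60 ∧ (5 ∣ q - 1 ∨ 5 ∣ q + 1)) := by
  classical
  set G := img hF B K
  have hno : ∀ g : G, orderOf g ≠ p := fun g h => hp (h ▸ orderOf_dvd_natCard g)
  have hord : ∀ g : G, orderOf g ∣ q - 1 ∨ orderOf g ∣ q + 1 := by
    intro g
    obtain ⟨l, hl⟩ := g.2
    have h := pow_eq_one hF B p hodd ⟨l, l.2.2⟩ (by
      rw [show Plane.planeHom hF B ⟨l, l.2.2⟩ = (g : PG) from hl, Subgroup.orderOf_coe]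
      exact hno g)
    rw [show Plane.planeHom hF B ⟨l, l.2.2⟩ = (g : PG) from hl] at h
    rw [← Subgroup.orderOf_coe, orderOf_dvd_iff_pow_eq_one, orderOf_dvd_iff_pow_eq_one]
    exact h
  rcases DicksonCount.classify_coprime ((DicksonAction.twoPt (F := F) p).subgroup G) hno with
    h | ⟨c, -, ⟨e⟩⟩ | ⟨⟨e⟩⟩ | ⟨⟨e⟩⟩ | ⟨⟨e⟩⟩
  · obtain ⟨g, hg⟩ := IsCyclic.exists_ofOrder_eq_natCard (α := G)
    exact Or.inl ⟨_, hord g, Or.inl hg.symm⟩
  · exact Or.inl ⟨_, hord c, Or.inr (by rw [Nat.card_congr e.toEquiv, DihedralGroup.nat_card])⟩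
  · refine Or.inr (Or.inl ?_)
    rw [Nat.card_congr e.toEquiv, nat_card_alternatingGroup, Nat.card_eq_fintype_card, Fintype.card_fin]
    rfl
  · refine Or.inr (Or.inr (Or.inl ?_))
    rw [Nat.card_congr e.toEquiv, Nat.card_perm, Nat.card_eq_fintype_card, Fintype.card_fin]
    rfl
  · have h60 : Nat.card G = 60 := by
      rw [Nat.card_congr e.toEquiv, nat_card_alternatingGroup, Nat.card_eq_fintype_card, Fintype.card_fin]
      rfl
    obtain ⟨g, hg⟩ := exists_prime_orderOf_dvd_card' (G := G) 5 (hp := ⟨by norm_num⟩) (by rw [h60]; norm_num)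
    exact Or.inr (Or.inr (Or.inr ⟨h60, hg ▸ hord g⟩))

omit [Field F] [Fintype F] hF in
/-- the arithmetic of the counting inequality -/
theorem small_cases {q p n z I : ℕ} (hp : p.Prime) (hpq : p ∣ q) (hodd : Odd q) (h7 : 7 ≤ q) (hn : n ∣ q + 1)
    (hz : z = Nat.gcd n 3) (hzn : z < n) (hineq : (q ^ 2 - q + 1) * (n - z) ≤ z * (n * I)) (hI : ¬ p ∣ I)
    (hshape : (∃ a, (a ∣ q - 1 ∨ a ∣ q + 1) ∧ (I = a ∨ I = 2 * a)) ∨ I = 12 ∨ I = 24 ∨
      (I = 60 ∧ (5 ∣ q - 1 ∨ 5 ∣ q + 1))) :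
    (q = 7 ∧ n = 2 * z ∧ I = 24) ∨ (q = 11 ∧ (n = 2 * z ∨ n = 4 * z) ∧ (I = 20 ∨ I = 24 ∨ I = 60)) := by
  have hz3 : z ≤ 3 := hz ▸ Nat.le_of_dvd (by norm_num) (Nat.gcd_dvd_right n 3)
  obtain ⟨s, hs⟩ : z ∣ n := hz ▸ Nat.gcd_dvd_left n 3
  have hIb : I ≤ 2 * (q + 1) ∨ I ≤ 60 := by
    rcases hshape with ⟨a, ha, h⟩ | h | h | h
    · have : a ≤ q + 1 := by
        rcases ha with ha | ha
        · exact (Nat.le_of_dvd (by omega) ha).trans (by omega)
        · exact Nat.le_of_dvd (by omega) ha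
      omega
    all_goals omega
  have hs2 : 2 ≤ s := by
    rcases Nat.lt_or_ge s 2 with h | h
    · interval_cases s <;> omega
    · exact h
  have hm : q ^ 2 - q + 1 ≤ 6 * I := by
    subst hs
    have h1 : z * s ≤ 2 * (z * s - z) := by
      have : z * 2 ≤ z * s := Nat.mul_le_mul_left z hs2
      omega
    have h0 : 0 < z * s := by omega
    refine Nat.le_of_mul_le_mul_left ?_ h0
    calc z * s * (q ^ 2 - q + 1) ≤ 2 * (z * s - z) * (q ^ 2 - q + 1) := Nat.mul_le_mul_right _ h1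
      _ = 2 * ((q ^ 2 - q + 1) * (z * s - z)) := by ring
      _ ≤ 2 * (z * (z * s * I)) := Nat.mul_le_mul_left _ hineq
      _ = z * s * (2 * z * I) := by ring
      _ ≤ z * s * (6 * I) := Nat.mul_le_mul_left _ (Nat.mul_le_mul_right _ (by omega))
  have hq19 : q ≤ 19 := by
    by_contra hlt
    push Not at hlt
    have h1 : 20 * q ≤ q ^ 2 := by rw [sq]; exact Nat.mul_le_mul_right q hlt
    omega
  have hnq : n ≤ q + 1 := Nat.le_of_dvd (by omega) hn
  obtain ⟨j, rfl⟩ := hodd
  have hj : j ≤ 9 := by omega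
  have hj3 : 3 ≤ j := by omega
  interval_cases j <;> norm_num at hineq hn hnq hshape hpq hm ⊢ <;> interval_cases n <;>
    norm_num at hn <;> norm_num at hz <;> subst hz <;> norm_num at hineq ⊢
  all_goals
    rcases hshape with ⟨a, ha, h | h⟩ | h | h | h
    all_goals first
      | omega
      | (rcases ha with ha | ha <;> have := Nat.le_of_dvd (by norm_num) ha <;> first
          | omega
          | (subst h; interval_cases a <;> first | omega | norm_num at ha))
      | (have hp3 : p = 3 :=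
          (Nat.prime_dvd_prime_iff_eq hp Nat.prime_three).1 (hp.dvd_of_dvd_pow (n := 2) (show p ∣ 3 ^ 2 from hpq))
         subst hp3; omega)

/-- a transvection, or one of two small cases -/
theorem homology_or_small {M C : Subgroup GL3} (hM : M ≤ SUn) (hCM : C ≤ M)
    (hC : ∀ c ∈ C, ∀ (x : Vec) (a : F), x ≠ 0 → (c : Mat) *ᵥ x = a • x → (c : Mat) = a • 1)
    (hCcard : Nat.card C = q ^ 2 - q + 1) (hodd : Odd q) (h7 : 7 ≤ q)
    (hex : ∃ k ∈ M.comap (emb F q) ⊓ fixLine F q B.w, Scalar B k ∧ ∀ a : F, mat k ≠ a • 1) :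
    (∃ (B' : Frame F q) (u : Cfsg.SU 3 F q), u ≠ 1 ∧ u ∈ M.comap (emb F q) ∧ u ∈ Group.Zg F q B'.e) ∨
      (q = 7 ∧ Nat.card (kern hF B (M.comap (emb F q))) = 2 * Nat.card (zker hF B (M.comap (emb F q))) ∧
        Nat.card (img hF B (M.comap (emb F q))) = 24) ∨
      (q = 11 ∧ (Nat.card (kern hF B (M.comap (emb F q))) = 2 * Nat.card (zker hF B (M.comap (emb F q))) ∨
          Nat.card (kern hF B (M.comap (emb F q))) = 4 * Nat.card (zker hF B (M.comap (emb F q)))) ∧
        (Nat.card (img hF B (M.comap (emb F q))) = 20 ∨ Nat.card (img hF B (M.comap (emb F q))) = 24 ∨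
          Nat.card (img hF B (M.comap (emb F q))) = 60)) := by
  obtain ⟨p, hchar⟩ := CharP.exists F
  obtain ⟨f, hp, hf⟩ := FiniteField.card F p
  have : Fact p.Prime := ⟨hp⟩
  have hpq : p ∣ q := hp.dvd_of_dvd_pow (n := 2) (by rw [← hF, hf]; exact dvd_pow_self p f.pos.ne')
  have hk := card_kern_dvd hF B (M.comap (emb F q))
  have hst := card_stab hF B (M.comap (emb F q))
  by_cases hpI : p ∣ Nat.card (img hF B (M.comap (emb F q)))
  · left
    obtain ⟨k, hko⟩ := exists_prime_orderOf_dvd_card' (G := ↥(M.comap (emb F q) ⊓ fixLine F q B.w)) p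
      (hp := ⟨hp⟩) (by rw [hst]; exact hpI.trans (Dvd.intro_left _ rfl))
    have hk1 : (k : Cfsg.SU 3 F q) ≠ 1 := fun h => by
      rw [← Subgroup.orderOf_coe, h, orderOf_one] at hko
      exact hp.one_lt.ne hko
    have hns : ¬ Scalar B (k : Cfsg.SU 3 F q) := fun h => by
      have hmem := (mem_kern hF B (M.comap (emb F q))).2 ⟨k.2, h⟩
      have h1 : p ∣ q + 1 := by
        refine (dvd_trans ?_ hk)
        have h2 := orderOf_dvd_natCard (⟨_, hmem⟩ : kern hF B (M.comap (emb F q)))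
        rwa [← Subgroup.orderOf_coe, show (((⟨_, hmem⟩ : kern hF B (M.comap (emb F q)))) : Cfsg.SU 3 F q) = k
          from rfl, Subgroup.orderOf_coe, hko] at h2
      exact hp.not_dvd_one ((Nat.dvd_add_right hpq).1 h1)
    obtain ⟨B', -, hB'⟩ := Plane.exists_centre hF B (p := p) (k := ⟨k, k.2.2⟩) hns (i := 1) (by
      refine Subtype.ext ?_
      rw [pow_one, SubgroupClass.coe_pow, ← hko, ← Subgroup.orderOf_coe, pow_orderOf_eq_one]
      rfl)
    exact ⟨B', k, hk1, k.2.1, hB'⟩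
  · right
    refine small_cases hp hpq hodd h7 hk (card_zker hF B _) (card_zker_lt hF B _ hex) ?_ hpI
      (img_card hF B _ p hodd hpI)
    rw [← hCcard, ← hst]
    exact image_ge hF B hM hCM hC

end Cfsg.Agent.Forms.Max.SU3.Singer.Homology
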