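import Cfsg.Agent.Lib.Forms.Max.SU3.Singer.Full
import Cfsg.Agent.Lib.Forms.Max.SU3.Singer.Cyclic
import Cfsg.Agent.Lib.Forms.Max.SU3.Singer.Conj
import Cfsg.Agent.Lib.Forms.Max.SU3.Subspace
import Cfsg.Agent.Lib.Forms.Max.SU3.Line
import Cfsg.Agent.S0205

/-!
# A transvection in a group containing the Singer group
-/

set_option autoImplicit false
set_option linter.unusedSectionVars false

namespace Cfsg.Agent.Forms.Max.SU3.Singer

open Matrix Cfsg.Agent.Classical Cfsg.Agent.Classical.Unitary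
open Cfsg.Agent.SimpleFacts Cfsg.Agent.SimpleFacts.MinIndexPSUThree Cfsg.Agent.SimpleFacts.MinIndexPSUThree.Borel

universe u

variable {F : Type u} [Field F] [Fintype F] {q : ℕ}

local notation "Vec" => (Fin 3 → F)
local notation "Mat" => Matrix (Fin 3) (Fin 3) F
local notation "GL3" => GL (Fin 3) F
local notation "H" => Cfsg.hermForm 3 F q
local notation "SU3" => Cfsg.SU 3 F q
local notation "SUn" => (Cfsg.GU 3 F q ⊓ Cfsg.Geo.specialLinear (Fin 3) F)

/-- the data of a group containing the Singer group -/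
structure Data (F : Type u) [Field F] [Fintype F] (q : ℕ) where
  hF : Fintype.card F = q ^ 2
  hq : 3 ≤ q
  hq5 : q ≠ 5
  K : Subalgebra F (Matrix (Fin 3) (Fin 3) F)
  hK : Cfsg.Geo.IsFieldSubalgebra 3 K
  M : Subgroup (GL (Fin 3) F)
  hM : M ≤ Cfsg.GU 3 F q ⊓ Cfsg.Geo.specialLinear (Fin 3) F
  c : GL (Fin 3) F
  hcM : c ∈ M
  hcK : (c : Matrix (Fin 3) (Fin 3) F) ∈ K
  hord : orderOf c = q ^ 2 - q + 1
  hall : ∀ x ∈ M, (x : Matrix (Fin 3) (Fin 3) F) ∈ K → x ∈ Subgroup.zpowers c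
  hnN : ¬ M ≤ Cfsg.Geo.subalgebraNormalizer K

variable (d : Data F q)

theorem Data.mem_K {x : GL3} (hx : x ∈ Subgroup.zpowers d.c) : (x : Mat) ∈ d.K := by
  obtain ⟨j, rfl⟩ := exists_pow hx
  rw [Units.val_pow_eq_pow_val]
  exact d.K.pow_mem d.hcK j

theorem Data.noEigen {x : GL3} (hx : x ∈ Subgroup.zpowers d.c) (v : Vec) (a : F) (hv : v ≠ 0)
    (h : (x : Mat) *ᵥ v = a • v) : (x : Mat) = a • 1 :=
  SL3.Singer.eq_scalar d.hK (d.mem_K hx) hv h

theorem Data.c_ne (z : F) : (d.c : Mat) ≠ z • 1 := by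
  have := (good d.hF d.hq d.hq5 (d.hM d.hcM) d.hord).1 1 le_rfl (by omega) z
  rwa [pow_one] at this

theorem Data.c_moves {v : Vec} (hv : v ≠ 0) (a : F) : (d.c : Mat) *ᵥ v ≠ a • v := fun h =>
  d.c_ne a (d.noEigen (Subgroup.mem_zpowers _) v a hv h)

/-- no solvable normal subgroup outside the scalars -/
theorem Data.scalar_of_solvable {E : Subgroup GL3} (hEM : E ≤ d.M)
    (hEn : ∀ g ∈ d.M, ∀ x ∈ E, g * x * g⁻¹ ∈ E) (hsol : Group.IsSolvable E) :
    E ≤ Cfsg.Geo.scalars (Fin 3) F := by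
  by_contra h
  obtain ⟨g1, g2⟩ := good d.hF d.hq d.hq5 (d.hM d.hcM) d.hord
  exact d.hnN (SL3.Singer.Odd.le_normalizer_of_solvable d.hK (d.hM.trans inf_le_right) d.hcM d.hcK
    hEM hEn hsol h g1 g2)

theorem Data.even : Even (Nat.card d.M) := by
  by_contra h
  have hsol : Group.IsSolvable d.M := S0205.result (Nat.not_even_iff_odd.1 h)
  have h1 := d.scalar_of_solvable le_rfl (fun g hg x hx => mul_mem (mul_mem hg hx) (inv_mem hg)) hsol d.hcM
  obtain ⟨z, hz⟩ := (Cfsg.Geo.mem_scalars_iff _).1 h1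
  exact d.c_ne _ hz

theorem Data.count_eight (h8 : q = 8) : ∃ ν t : ℕ, ν ∣ 3 ∧ Nat.card d.M = ν * 57 * (1 + t * 19) := by
  obtain ⟨ν, t, hν, -, h⟩ := card_eq d.hK (d.hM.trans inf_le_right) d.hcM d.hcK d.hord d.c_ne d.hall
  refine ⟨ν, t, hν, h.trans ?_⟩
  subst h8
  norm_num

/-- a transvection gives everything -/
theorem Data.le_of_transvection (B : Frame F q) {u : SU3} (hu : u ∈ d.M.comap (emb F q))
    (huZ : u ∈ Group.Zg F q B.e) (hu1 : u ≠ 1) : SUn ≤ d.M := by
  have hF := d.hF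
  have hfull := zg_le hF d.hq d.hq5 d.hM (C := Subgroup.zpowers d.c) (Subgroup.zpowers_le.2 d.hcM)
    (fun x hx v a hv h => d.noEigen hx v a hv h) (by rw [Nat.card_zpowers, d.hord]) d.count_eight B hu huZ hu1
  have he : B.e ∈ Unitary.centres q d.M := (mem_centres_iff hF d.hM B).2 hfull
  set e' := (d.c : Mat) *ᵥ B.e with he'def
  have he' : e' ∈ Unitary.centres q d.M := Unitary.centres_map hF d.hM d.hcM he
  have hnp : ∀ a : F, e' ≠ a • B.e := d.c_moves (e_ne B)
  have hee' : H B.e e' ≠ 0 := by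
    intro h
    have h' := (H_eq_zero_comm hF).1 h
    have hd := decomp hF B e'
    rw [h', zero_smul, add_zero] at hd
    have hw : H e' B.w = 0 := by
      have h2 := he'.1
      rw [hd] at h2
      simp [H_add_left, H_add_right hF, H_smul_left, H_smul_right, B.he, B.hwe, hew hF B, B.hww,
        q_ne_zero hF] at h2
      exact h2
    rw [hw, zero_smul, add_zero] at hd
    exact hnp _ hd
  set w := UnitaryThreeReflection.perp q B.e e' with hwdef
  have hww : H w w ≠ 0 := by
    rw [hwdef, UnitaryThreeReflection.H_perp_self hF, B.he, he'.1, zero_mul, zero_sub, neg_ne_zero]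
    exact mul_ne_zero hee' fun h => hee' ((H_eq_zero_comm hF).1 h)
  have hline : ∀ v, H v w = 0 → H v v = 0 → v ∈ Unitary.centres q d.M := by
    intro v hv hvv
    set b := H v B.e / H e' B.e with hb
    set a := (H v e' - b * H e' e') / H B.e e' with ha
    have he0 : H e' B.e ≠ 0 := fun h => hee' ((H_eq_zero_comm hF).1 h)
    obtain ⟨γ, hγ⟩ := UnitaryThreeReflection.exists_smul_of_perp hF (z := v - (a • B.e + b • e'))
      (e_ne B) hnp (by
        simp only [H_sub_left, H_add_left, H_smul_left, B.he, hb]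
        field_simp
        ring) (by
        simp only [H_sub_left, H_add_left, H_smul_left, he'.1, ha]
        field_simp
        ring)
    have h0 : γ * H w w = 0 := by
      rw [← H_smul_left, hwdef, ← hγ, H_sub_left, H_add_left, H_smul_left, H_smul_left, ← hwdef, hv]
      rw [hwdef, UnitaryThreeReflection.H_perp_left hF, UnitaryThreeReflection.H_perp_right hF]
      ring
    rw [(mul_eq_zero.1 h0).resolve_right hww, zero_smul, sub_eq_zero] at hγ
    rw [hγ] at hvv ⊢
    exact centres_line hF d.hM he he' hee' hvv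
  refine Subspace.sl_le_of_line hF rfl d.hq d.hM hww hline d.hcM fun h => ?_
  obtain ⟨a, ha⟩ := Submodule.mem_span_singleton.1 h
  exact d.c_moves (fun h0 => hww (by rw [h0, H_zero_left])) a ha.symm

theorem Data.exists_involution : ∃ t : SU3, t ∈ d.M.comap (emb F q) ∧ t ≠ 1 ∧ t * t = 1 := by
  have h2 : 2 ∣ Nat.card (d.M.comap (emb F q)) := by rw [card_comap d.hM]; exact even_iff_two_dvd.1 d.even
  obtain ⟨⟨t, ht⟩, ho⟩ := exists_prime_orderOf_dvd_card' 2 h2
  rw [orderOf_eq_prime_iff] at ho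
  exact ⟨t, ht, fun h => ho.2 (Subtype.ext h), by rw [← pow_two]; exact congrArg Subtype.val ho.1⟩

theorem Data.le_of_even (hq : Even q) : SUn ≤ d.M := by
  have hF := d.hF
  obtain ⟨t, ht, ht1, htt⟩ := d.exists_involution
  have h2c : CharP F 2 := by
    have h2 : ringChar F = 2 := by
      by_contra h
      have := FiniteField.odd_card_of_char_ne_two h
      rw [hF] at this
      obtain ⟨r, rfl⟩ := hq
      have h4 : (r + r) ^ 2 % 2 = 0 := by rw [Nat.pow_mod]; simp [show (r + r) % 2 = 0 by omega]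
      omega
    exact h2 ▸ ringChar.charP F
  obtain ⟨v, hv, hvv, hfix, -⟩ := UnitaryThreeSections.exists_fixed hF
    (UnitaryThreeSections.sub_one_nilpotent (p := 2) (k := 1) (by rw [pow_one, pow_two]; exact htt)) ht1
  obtain ⟨B, rfl⟩ := exists_frame hF hvv hv
  refine d.le_of_transvection B ht ((Group.mem_Zg_iff hF B).2 ⟨hfix, ?_⟩) ht1
  have h := tau_mul hF B hfix hfix
  have e2 : (2 : F) = 0 := CharTwo.two_eq_zero
  rw [htt, tau_one hF B] at h
  have : phi B t ^ (q + 1) = 0 := by rw [pow_succ]; linear_combination h + tau B t * e2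
  exact eq_zero_of_pow_eq_zero this

end Cfsg.Agent.Forms.Max.SU3.Singer
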