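import Cfsg.Agent.Lib.Forms.Max.SU3.Singer.Main
import Cfsg.Agent.Lib.Forms.Max.SU3.Singer.Homology

/-!
# The normaliser of a Singer group is maximal in the special unitary group of degree three
-/

set_option autoImplicit false
set_option linter.unusedSectionVars false

namespace Cfsg.Agent.Forms.Max.SU3.Singer

open Matrix Cfsg.Agent.Classical Cfsg.Agent.Classical.Unitary
open Cfsg.Agent.SimpleFacts Cfsg.Agent.SimpleFacts.MinIndexPSUThree Cfsg.Agent.SimpleFacts.MinIndexPSUThree.Borel
open Cfsg.Agent.SimpleFacts.MinIndexPSUThree.Plane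
open scoped LinearAlgebra.Projectivization

theorem eleven_arith : ∀ k ∈ List.range 400, ∀ D ∈ [120, 144, 240, 288, 360, 720],
    k * D % 9 = 0 → k * D / 9 % 37 = 1 → ¬ k * D ∣ 5749920 := by decide +kernel

universe u

variable {F : Type u} [Field F] [Fintype F] {q : ℕ}

local notation "Vec" => (Fin 3 → F)
local notation "Mat" => Matrix (Fin 3) (Fin 3) F
local notation "GL3" => GL (Fin 3) F
local notation "H" => Cfsg.hermForm 3 F q
local notation "SU3" => Cfsg.SU 3 F q
local notation "SUn" => (Cfsg.GU 3 F q ⊓ Cfsg.Geo.specialLinear (Fin 3) F)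

variable (d : Data F q)

/-- the group against the stabiliser of a centre -/
theorem Data.index_bound {w : Vec} (hw : w ≠ 0) :
    ∃ I, Nat.card d.M = I * Nat.card ↥(d.M.comap (emb F q) ⊓ fixLine F q w) ∧ I ≤ q ^ 4 + q ^ 2 + 1 := by
  classical
  set K := d.M.comap (emb F q) with hK
  have hle : K ⊓ fixLine F q w ≤ K := inf_le_left
  set S := (K ⊓ fixLine F q w).subgroupOf K with hS
  refine ⟨S.index, ?_, ?_⟩
  · rw [← Nat.card_congr (Subgroup.subgroupOfEquivOfLe hle).toEquiv, ← hS, mul_comm, Subgroup.card_mul_index,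
      hK, card_comap d.hM]
  · -- cosets give points of the plane
    have : Finite (ℙ F Vec) := inferInstance
    let f : K ⧸ S → ℙ F Vec := Quotient.lift
      (fun k => Projectivization.mk F (mat (k : SU3) *ᵥ w) (mat_mulVec_ne_zero _ hw)) (by
        intro a b hab
        have hab' : a⁻¹ * b ∈ S := QuotientGroup.leftRel_apply.1 hab
        obtain ⟨-, x, hx0, hx⟩ := (hab' : ((a⁻¹ * b : K) : SU3) ∈ K ⊓ fixLine F q w)
        refine ((Projectivization.mk_eq_mk_iff' F _ _ _ _).2 ⟨x, ?_⟩).symm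
        rw [← Matrix.mulVec_smul, ← hx, ← mul_mulVec]
        simp)
    have hinj : Function.Injective f := by
      intro a b
      obtain ⟨a, rfl⟩ := QuotientGroup.mk_surjective a
      obtain ⟨b, rfl⟩ := QuotientGroup.mk_surjective b
      intro h
      obtain ⟨x, hx⟩ := (Projectivization.mk_eq_mk_iff' F _ _ _ _).1 (h.symm :)
      have hx0 : x ≠ 0 := fun e => mat_mulVec_ne_zero (b : SU3) hw (by rw [← hx, e, zero_smul])
      refine QuotientGroup.eq.2 (show ((a⁻¹ * b : K) : SU3) ∈ K ⊓ fixLine F q w from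
        ⟨(a⁻¹ * b : K).2, x, hx0, ?_⟩)
      rw [Subgroup.coe_mul, InvMemClass.coe_inv, mul_mulVec, ← hx, Matrix.mulVec_smul, ← mul_mulVec,
        inv_mul_cancel, mat_one, one_mulVec]
    have h1 := Nat.card_le_card_of_injective f hinj
    rw [← Subgroup.index_eq_card] at h1
    refine h1.trans (le_of_eq ?_)
    rw [Projectivization.card_of_finrank F Vec (n := 3) (by simp), Finset.sum_range_succ, Finset.sum_range_succ,
      Finset.sum_range_succ, Finset.sum_range_zero, Nat.card_eq_fintype_card, d.hF]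
    ring

theorem Data.dvd_SU : Nat.card d.M ∣ q ^ 3 * (q ^ 3 + 1) * (q ^ 2 - 1) := by
  rw [← card_comap d.hM, ← Group.card_SU d.hF]
  exact Subgroup.card_subgroup_dvd_card _

/-- elements of the Singer group of order three are scalar -/
theorem Data.exists_scalar (h3 : 3 ∣ q + 1) : ∃ k ∈ d.M.comap (emb F q), k ≠ 1 ∧ ∃ a : F, mat k = a • 1 := by
  have hdvd : 3 ∣ q ^ 2 - q + 1 := by
    have h1 := (gcd_nine q).2
    rw [show Nat.gcd 3 (q + 1) = 3 from Nat.gcd_eq_left h3] at h1
    exact h1 ▸ Nat.gcd_dvd_left _ _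
  set j := (q ^ 2 - q + 1) / 3 with hj
  have hx : d.c ^ j ∈ Subgroup.zpowers d.c := pow_mem (Subgroup.mem_zpowers _) j
  obtain ⟨z, hz⟩ := (mem_iff_cube d.hK d.hcK ((d.hM d.hcM).2) hx).2 (by
    rw [← pow_mul, hj, Nat.div_mul_cancel hdvd, ← d.hord, pow_orderOf_eq_one])
  obtain ⟨k, hk⟩ := (range_emb (F := F) (q := q)).ge (d.hM (pow_mem d.hcM j))
  refine ⟨k, by show emb F q k ∈ d.M; rw [hk]; exact pow_mem d.hcM j, fun h1 => ?_, z, by rw [← coe_emb, hk, hz]⟩
  rw [h1, map_one, eq_comm, ← orderOf_dvd_iff_pow_eq_one, d.hord] at hk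
  have h0 : 0 < q ^ 2 - q + 1 := Nat.succ_pos _
  have := Nat.le_of_dvd (Nat.div_pos (Nat.le_of_dvd h0 hdvd) (by norm_num)) hk
  have := Nat.div_lt_self h0 (by norm_num : 1 < 3)
  omega

theorem Data.le_of_odd (hq3 : q ≠ 3) (hq : Odd q) : SUn ≤ d.M := by
  classical
  have hF := d.hF
  obtain ⟨t, ht, ht1, htt⟩ := d.exists_involution
  obtain ⟨v, hv, rfl⟩ := UnitaryThreeReflection.exists_refl hF hq t ht1 htt
  obtain ⟨B, rfl⟩ := exists_frame_unit hF hv
  have h7 : 7 ≤ q := by
    obtain ⟨r, hr⟩ := hq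
    have := d.hq
    have := d.hq5
    omega
  have hex : ∃ k ∈ d.M.comap (emb F q) ⊓ fixLine F q B.w, Scalar B k ∧ ∀ a : F, mat k ≠ a • 1 := by
    refine ⟨_, ⟨ht, 1, one_ne_zero, by rw [UnitaryThreeReflection.refl_self, one_smul]⟩, ⟨-1, ?_, ?_⟩, ?_⟩
    · rw [UnitaryThreeReflection.refl_mulVec, hew hF B, mul_zero, zero_smul, add_zero, neg_smul, one_smul]
    · rw [UnitaryThreeReflection.refl_mulVec, hfw hF B, mul_zero, zero_smul, add_zero, neg_smul, one_smul]
    · intro a ha
      have h1 := UnitaryThreeReflection.refl_self hF hv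
      rw [ha, Matrix.smul_mulVec, one_mulVec] at h1
      have h2 : a = 1 := smul_left_injective F (w_ne B) (h1.trans (one_smul F B.w).symm :)
      have h3 := UnitaryThreeReflection.refl_mulVec hF hv B.e
      rw [ha, h2, one_smul, one_mulVec, hew hF B, mul_zero, zero_smul, add_zero] at h3
      refine e_ne B ((smul_eq_zero.1 (show (2 : F) • B.e = 0 from ?_)).resolve_left
        (UnitaryThreeReflection.two_ne hF hq))
      rw [two_smul]
      nth_rw 2 [h3]
      exact add_neg_cancel _
  rcases Homology.homology_or_small hF B d.hM (C := Subgroup.zpowers d.c) (Subgroup.zpowers_le.2 d.hcM)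
      (fun x hx v a hv h => d.noEigen hx v a hv h) (by rw [Nat.card_zpowers, d.hord]) hq h7 hex with
    ⟨B', u, hu1, hu, huZ⟩ | ⟨h, hk, hi⟩ | ⟨h, hk, hi⟩
  · exact d.le_of_transvection B' hu huZ hu1
  · exfalso
    obtain ⟨ν, t, hν, -, hM⟩ := card_eq d.hK (d.hM.trans inf_le_right) d.hcM d.hcK d.hord d.c_ne d.hall
    obtain ⟨I, hI, hIb⟩ := d.index_bound (w_ne B)
    have hdvd := d.dvd_SU
    have h8 := Homology.card_kern_dvd hF B (d.M.comap (emb F q))
    rw [Homology.card_stab hF B, hi] at hI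
    have hz := Homology.card_zker hF B (d.M.comap (emb F q))
    generalize hS : Nat.card (Homology.kern hF B (d.M.comap (emb F q))) = S at h8 hI hk hz
    generalize hZ : Nat.card (Homology.zker hF B (d.M.comap (emb F q))) = Z at hk hz
    have hS2 : S = 2 := by
      have h8' : S ∣ 8 := by simpa [h] using h8
      have := Nat.le_of_dvd (by norm_num) h8'
      interval_cases S <;> first | omega | (norm_num at hz; omega)
    rw [hS2] at hI
    have hM' : Nat.card d.M = ν * 43 * (1 + t * 43) := hM.trans (by subst h; norm_num)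
    have hIb' : I ≤ 2451 := hIb.trans (by subst h; norm_num)
    have hdvd' : Nat.card d.M ∣ 5663616 := hdvd.trans (by subst h; norm_num)
    rw [hI] at hM' hdvd'
    have hI0 : 43 ∣ I := by
      have : 43 ∣ I * (2 * 24) := ⟨ν * (1 + t * 43), by rw [hM']; ring⟩
      exact Nat.Coprime.dvd_of_dvd_mul_right (by norm_num) this
    obtain ⟨k, rfl⟩ := hI0
    have hk57 : k ≤ 57 := by omega
    rcases (Nat.dvd_prime Nat.prime_three).1 hν with rfl | rfl
    · have hk26 : k = 26 := by omega
      subst hk26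
      norm_num at hdvd'
    · have hk35 : k = 35 := by omega
      subst hk35
      norm_num at hdvd'
  · exfalso
    obtain ⟨ν, t, hν, hN, hM⟩ := card_eq d.hK (d.hM.trans inf_le_right) d.hcM d.hcK d.hord d.c_ne d.hall
    have hne := card_ne_eleven d.hK (d.hM.trans inf_le_right) d.hcM d.hcK h d.hord d.c_ne d.hall d.even
    rcases (Nat.dvd_prime Nat.prime_three).1 hν with rfl | rfl
    · exact hne (by rw [hN, one_mul])
    obtain ⟨I, hI, hIb⟩ := d.index_bound (w_ne B)
    have hdvd := d.dvd_SU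
    have h12 := Homology.card_kern_dvd hF B (d.M.comap (emb F q))
    rw [Homology.card_stab hF B] at hI
    have hz := Homology.card_zker hF B (d.M.comap (emb F q))
    have h3 : 3 ∣ Nat.card (Homology.kern hF B (d.M.comap (emb F q))) := by
      obtain ⟨k, hk, hk1, a, hka⟩ := d.exists_scalar (by subst h; norm_num)
      have hkx : ∀ x : Vec, mat k *ᵥ x = a • x := fun x => by rw [hka, Matrix.smul_mulVec, one_mulVec]
      have ha3 : a ^ 3 = 1 := by
        have hd : (mat k).det = 1 := k.1.2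
        rwa [hka, Matrix.det_smul, Matrix.det_one, mul_one, Fintype.card_fin] at hd
      have hk3 : k ^ 3 = 1 := SU_ext fun x => by
        rw [pow_succ, pow_two, mul_mulVec, mul_mulVec, hkx, hkx, hkx, smul_smul, smul_smul,
          show a * a * a = a ^ 3 by ring, ha3, one_smul, mat_one, one_mulVec]
      have hmem : k ∈ Homology.kern hF B (d.M.comap (emb F q)) := (Homology.mem_kern hF B _).2
        ⟨⟨hk, a, fun h0 => mat_mulVec_ne_zero k (w_ne B) (by rw [hkx, h0, zero_smul]), hkx _⟩, a, hkx _, hkx _⟩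
      have h := orderOf_dvd_natCard (⟨k, hmem⟩ : Homology.kern hF B (d.M.comap (emb F q)))
      rwa [Subgroup.orderOf_mk, orderOf_eq_prime (p := 3) hk3 hk1] at h
    generalize hS : Nat.card (Homology.kern hF B (d.M.comap (emb F q))) = S at h12 hI hk hz h3
    generalize hZ : Nat.card (Homology.zker hF B (d.M.comap (emb F q))) = Z at hk hz
    generalize hG : Nat.card (Homology.img hF B (d.M.comap (emb F q))) = G at hI hi
    have hz3 : Z = 3 := by rw [hz]; exact Nat.gcd_eq_right h3
    subst hz3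
    have hD : S * G ∈ [120, 144, 240, 288, 360, 720] := by
      rcases hk with rfl | rfl <;> rcases hi with rfl | rfl | rfl <;> decide
    have hD9 : 0 < S * G ∧ Nat.Coprime 37 (S * G) := by
      rcases hk with rfl | rfl <;> rcases hi with rfl | rfl | rfl <;> norm_num
    generalize S * G = D at hI hD hD9
    have hM' : Nat.card d.M = 3 * 111 * (1 + t * 37) := hM.trans (by subst h; norm_num)
    have hIb' : I ≤ 14763 := hIb.trans (by subst h; norm_num)
    have hdvd' : Nat.card d.M ∣ 37 * 5749920 := hdvd.trans (by subst h; norm_num)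
    rw [hI] at hM' hdvd'
    have hI0 : 37 ∣ I := by
      have : 37 ∣ I * D := ⟨9 * (1 + t * 37), by rw [hM']; ring⟩
      exact hD9.2.dvd_of_dvd_mul_right this
    obtain ⟨k, rfl⟩ := hI0
    have hk' : k * D = 9 * (1 + t * 37) := Nat.eq_of_mul_eq_mul_left (show 0 < 37 by norm_num)
      (by rw [← mul_assoc, hM']; ring)
    rw [mul_assoc] at hdvd'
    refine eleven_arith k (List.mem_range.2 (by omega)) D hD (by omega) (by omega) ?_
    exact Nat.dvd_of_mul_dvd_mul_left (by norm_num) hdvd'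

/-- the conjunct -/
theorem maximal {F : Type*} [Field F] [Fintype F] (q : ℕ) (hF : Fintype.card F = q ^ 2) (hq : 3 ≤ q) :
    q ≠ 3 → q ≠ 5 → ∀ K : Subalgebra F (Matrix (Fin 3) (Fin 3) F), Cfsg.Geo.IsFieldSubalgebra 3 K → Cfsg.Geo.IsAdjointClosedFor (Cfsg.hermForm 3 F q) K → Cfsg.Geo.IsMaximalIn (Cfsg.GU 3 F q ⊓ Cfsg.Geo.specialLinear (Fin 3) F) (Cfsg.Geo.subalgebraNormalizer K ⊓ (Cfsg.GU 3 F q ⊓ Cfsg.Geo.specialLinear (Fin 3) F)) := by
  intro hq3 hq5 K hK hKa
  obtain ⟨c, hcK, hc, hord, hall⟩ := exists_gen hF hK hKa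
  have hc1 : ∀ z : F, (c : Matrix (Fin 3) (Fin 3) F) ≠ z • 1 := fun z => by
    have := (good hF hq hq5 hc hord).1 1 le_rfl (by omega) z
    rwa [pow_one] at this
  refine Max.isMaximalIn_of inf_le_right (fun h => not_le_normalizer hF hK hcK hc1 (h.trans inf_le_left))
    fun M hHM hMK g hg hgn => ?_
  let d : Data F q := ⟨hF, hq, hq5, K, hK, M, hMK, c, hHM ⟨mem_normalizer_self hK hcK, hc⟩, hcK, hord,
    fun x hx hxK => hall x (hMK hx) hxK, fun h => hgn ⟨h hg, hMK hg⟩⟩
  rcases Nat.even_or_odd q with h | h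
  · exact d.le_of_even h
  · exact d.le_of_odd hq3 h

end Cfsg.Agent.Forms.Max.SU3.Singer
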