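import Cfsg.Agent.Lib.Forms.Max.SU3.Emb
import Cfsg.Agent.Lib.Forms.Max.SU3.Singer.Inject
import Cfsg.Agent.SimpleFacts.MinIndexPSUThree.Values

/-!
# The stabiliser of a transvection centre is large
-/

set_option autoImplicit false
set_option linter.unusedSectionVars false

namespace Cfsg.Agent.Forms.Max.SU3.Singer

open Matrix Cfsg.Agent.Classical Cfsg.Agent.Classical.Unitary
open Cfsg.Agent.SimpleFacts.MinIndexPSUThree Cfsg.Agent.SimpleFacts.MinIndexPSUThree.Borel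

universe u

variable {F : Type u} [Field F] [Fintype F] {q : ℕ}

local notation "Vec" => (Fin 3 → F)
local notation "Mat" => Matrix (Fin 3) (Fin 3) F
local notation "H" => Cfsg.hermForm 3 F q
local notation "GL3" => GL (Fin 3) F
local notation "SUn" => (Cfsg.GU 3 F q ⊓ Cfsg.Geo.specialLinear (Fin 3) F)

variable (hF : Fintype.card F = q ^ 2)

include hF

theorem exists_phi (e : Vec) : ∃ φ : Vec, ∀ x, φ ⬝ᵥ x = H x e :=
  ⟨_, (Max.exists_row (hlin q e)).choose_spec⟩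

/-- conjugates of transvections with one centre -/
theorem conj_shape {M : Subgroup GL3} (hM : M ≤ SUn) (B : Frame F q) {g : GL3} (hg : g ∈ M)
    {t : Cfsg.SU 3 F q} (ht : t ∈ Group.Zg F q B.e) (x : Vec) :
    ((g * emb F q t * g⁻¹ : GL3) : Mat) *ᵥ x =
      x + (tau B t * H x ((g : Mat) *ᵥ B.e)) • ((g : Mat) *ᵥ B.e) := by
  have hh := (Unitary.mem_SUn.1 (hM hg)).1
  have e : t = tvu hF B.he (Group.tau_traceZero hF B ht) := by
    obtain ⟨u1, u2⟩ := (Group.mem_Zg_iff hF B).1 ht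
    obtain ⟨v1, v2⟩ := (Group.mem_Zg_iff hF B).1 (Group.tvu_mem_Zg hF B (Group.tau_traceZero hF B ht)).1
    exact unip_ext hF B u1 v1 (u2.trans v2.symm) (Group.tvu_mem_Zg hF B _).2.symm
  conv_lhs => rw [e]
  simp only [Units.val_mul, ← Matrix.mulVec_mulVec, coe_emb, tvu_mulVec, Matrix.mulVec_add, Matrix.mulVec_smul]
  have h1 : (g : Mat) *ᵥ (((g⁻¹ : GL3) : Mat) *ᵥ x) = x := by
    rw [Matrix.mulVec_mulVec, ← Units.val_mul, mul_inv_cancel, Units.val_one, Matrix.one_mulVec]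
  rw [h1, ← hh (((g⁻¹ : GL3) : Mat) *ᵥ x) B.e, h1]

/-- `|C| (z - 1) ≤ |stabiliser of the centre|` -/
theorem stab_ge {M C : Subgroup GL3} (hM : M ≤ SUn) (hCM : C ≤ M)
    (hC : ∀ c ∈ C, ∀ (x : Vec) (a : F), x ≠ 0 → (c : Mat) *ᵥ x = a • x → (c : Mat) = a • 1)
    (B : Frame F q) :
    Nat.card C * (Nat.card ↥(M.comap (emb F q) ⊓ Group.Zg F q B.e) - 1) ≤
      Nat.card (Sub.Stab (M.comap (emb F q)) B) := by
  classical
  set K := M.comap (emb F q) with hK
  set T : Set GL3 := emb F q '' (((K ⊓ Group.Zg F q B.e : Subgroup (Cfsg.SU 3 F q)) : Set (Cfsg.SU 3 F q)) \ {1})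
    with hT
  have hTM : T ⊆ M := by rintro _ ⟨u, ⟨hu, -⟩, rfl⟩; exact hu.1
  have hTcard : Nat.card T = Nat.card ↥(K ⊓ Group.Zg F q B.e) - 1 := by
    rw [hT, Nat.card_image_of_injective emb_injective, Nat.card_coe_set_eq, Set.ncard_sdiff
      (Set.singleton_subset_iff.2 (one_mem (K ⊓ Group.Zg F q B.e))) (Set.finite_singleton _),
      Set.ncard_singleton, ← Nat.card_coe_set_eq]
    rfl
  have hD : ∀ g ∈ M, ∀ t ∈ T, g * t * g⁻¹ ∈ T → g ∈ (Sub.Stab K B).map (emb F q) := by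
    rintro g hg _ ⟨t, ⟨ht, ht1⟩, rfl⟩ ⟨t', ⟨ht', -⟩, he⟩
    obtain ⟨k, rfl⟩ := (range_emb (F := F) (q := q)).ge (hM hg)
    refine ⟨k, ?_, rfl⟩
    have hτ : tau B t ≠ 0 := fun h => ht1 (by
      obtain ⟨u1, u2⟩ := (Group.mem_Zg_iff hF B).1 ht.2
      exact unip_ext hF B u1 (by rw [mat_one, one_mulVec]) (u2.trans (phi_one hF B).symm)
        (h.trans (tau_one hF B).symm))
    set v := mat k *ᵥ B.e with hv
    obtain ⟨x, hx⟩ : ∃ x, H x v ≠ 0 := by
      by_contra h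
      push Not at h
      exact mat_mulVec_ne_zero k (e_ne B) (eq_zero_of_H hF fun y => (H_eq_zero_comm hF).1 (h y))
    have h1 := conj_shape hF hM B hg ht.2 x
    rw [← he, coe_emb, coe_emb, ← hv, show mat t' *ᵥ x = x + (tau B t' * H x B.e) • B.e from by
      have := conj_shape hF (M := SUn) le_rfl B (g := 1) (one_mem _) ht'.2 x
      simpa [coe_emb] using this] at h1
    have h2 := add_left_cancel h1
    refine Sub.mem_Stab K B hg (a := (tau B t * H x v)⁻¹ * (tau B t' * H x B.e)) ?_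
    show v = _
    rw [← smul_smul, h2, smul_smul, inv_mul_cancel₀ (mul_ne_zero hτ hx), one_smul]
  have h1 := card_conj_le M ((Sub.Stab K B).map (emb F q)) hTM hD
  rw [Subgroup.card_map_of_injective emb_injective, hTcard] at h1
  set S : Set GL3 := {s | ∃ g ∈ M, ∃ t ∈ T, g * t * g⁻¹ = s}
  have hSM : S ⊆ M := by rintro _ ⟨g, hg, t, ht, rfl⟩; exact mul_mem (mul_mem hg (hTM ht)) (inv_mem hg)
  have hfix : ∀ s ∈ S, ∃ φ : Vec, ∀ x, φ ⬝ᵥ x = 0 → (s : Mat) *ᵥ x = x := by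
    rintro _ ⟨g, hg, _, ⟨t, ⟨ht, -⟩, rfl⟩, rfl⟩
    obtain ⟨φ, hφ⟩ := exists_phi hF ((g : Mat) *ᵥ B.e)
    exact ⟨φ, fun x hx => by rw [conj_shape hF hM B hg ht.2, ← hφ, hx, mul_zero, zero_smul, add_zero]⟩
  have h2 : Nat.card C * Nat.card S ≤ 1 * Nat.card M := by
    have := card_mul_le hCM hC hSM (fun s hs => by
      obtain ⟨φ, hφ⟩ := hfix s hs
      exact ⟨1, φ, one_ne_zero, fun x hx => by rw [one_smul]; exact hφ x hx⟩) {1} (fun s hs s' hs' a ha => by
      obtain ⟨φ, hφ⟩ := hfix s hs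
      obtain ⟨φ', hφ'⟩ := hfix s' hs'
      obtain ⟨x, hx0, h1, h2⟩ := exists_common (φ := φ) (ψ := φ')
      have h3 : ((s⁻¹ : GL3) : Mat) *ᵥ x = x := by
        conv_lhs => rw [← hφ x h1, Matrix.mulVec_mulVec, ← Units.val_mul, inv_mul_cancel, Units.val_one,
          Matrix.one_mulVec]
      have h4 : a • x = (1 : F) • x := by
        rw [one_smul, show a • x = (a • (1 : Mat)) *ᵥ x from by rw [Matrix.smul_mulVec, Matrix.one_mulVec],
          ← ha, Units.val_mul, ← Matrix.mulVec_mulVec, h3, hφ' x h2]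
      rw [Set.mem_singleton_iff]
      exact Units.ext (by rw [ha, smul_left_injective F hx0 h4, one_smul, Units.val_one]))
    simpa using this
  have hpos : 0 < Nat.card M := Nat.card_pos
  refine Nat.le_of_mul_le_mul_left ?_ hpos
  calc Nat.card M * (Nat.card C * (Nat.card ↥(K ⊓ Group.Zg F q B.e) - 1))
      = Nat.card C * (Nat.card M * (Nat.card ↥(K ⊓ Group.Zg F q B.e) - 1)) := by ring
    _ ≤ Nat.card C * (Nat.card S * Nat.card (Sub.Stab K B)) := Nat.mul_le_mul_left _ h1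
    _ = Nat.card C * Nat.card S * Nat.card (Sub.Stab K B) := by ring
    _ ≤ Nat.card M * Nat.card (Sub.Stab K B) := Nat.mul_le_mul_right _ (by simpa using h2)

end Cfsg.Agent.Forms.Max.SU3.Singer
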